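import Groth.Agent.S16764
import Groth.Agent.S2758
import Groth.Agent.FieldPow.Main
import Groth.Agent.MTBridge.MonoNhd
import Groth.Agent.MTBridge.CentralFibres
import Mathlib

/-!
# Power maps are etale at central torsion points of invertible order
-/

set_option autoImplicit false
set_option linter.style.haveILetI false
set_option backward.isDefEq.respectTransparency false
set_option maxHeartbeats 1000000
set_option synthInstance.maxHeartbeats 400000

universe u

open CategoryTheory Limits MonoidalCategory CartesianMonoidalCategory AlgebraicGeometry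
open scoped CategoryTheory.Obj MonObj

noncomputable section

namespace Groth.Agent.CentralLift

/-- base change of a power map is a power map -/
theorem map_pow_id {S T : Scheme.{u}} (H : Over S) [GrpObj H] (g : T ⟶ S) (n : ℕ) :
    (Over.pullback g).map ((𝟙 H : H ⟶ H) ^ n) = (𝟙 (Red.bc g H)) ^ n := by
  induction n with
  | zero => simp only [pow_zero]; exact Functor.map_one _
  | succ k ih => rw [pow_succ, pow_succ, Functor.map_mul, ih, CategoryTheory.Functor.map_id]

/-- over a field, the power map is etale at central points killed by the exponent -/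
theorem exists_etale_nhd_central {K : Type u} [Field K] (G : Over (Spec (CommRingCat.of K))) [GrpObj G]
    [LocallyOfFiniteType G.hom] (n : ℕ) (hn : (n : K) ≠ 0) (z : 𝟙_ (Over (Spec (CommRingCat.of K))) ⟶ G)
    (hz : ∀ (X : Over (Spec (CommRingCat.of K))) (g : X ⟶ G), g * (toUnit X ≫ z) = (toUnit X ≫ z) * g)
    (hzn : z ^ n = 1) (p : (𝟙_ (Over (Spec (CommRingCat.of K)))).left) :
    ∃ U : G.left.Opens, z.left p ∈ U ∧ Etale (U.ι ≫ ((𝟙 G : G ⟶ G) ^ n).left) := by
  obtain ⟨U, hU, het⟩ := FieldPow.exists_etale_nhd_unit G (n := (n : ℤ)) (by exact_mod_cast hn)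
  rw [zpow_natCast] at het
  let c : G ⟶ G := toUnit G ≫ z
  have hc : Commute (𝟙 G) c := hz G (𝟙 G)
  let T : G ⟶ G := 𝟙 G * c⁻¹
  let T' : G ⟶ G := 𝟙 G * c
  have hT : T ≫ T' = 𝟙 G := by
    simp only [T', c, MonObj.comp_mul, Category.comp_id, ← Category.assoc, comp_toUnit]
    simp [T, c]
  have hT' : T' ≫ T = 𝟙 G := by
    simp only [T, c, MonObj.comp_mul, GrpObj.comp_inv, Category.comp_id, ← Category.assoc, comp_toUnit]
    simp [T', c]
  haveI : IsIso T := ⟨T', hT, hT'⟩
  haveI : IsIso T.left := inferInstanceAs (IsIso ((Over.forget _).map T))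
  have hcn : c ^ n = 1 := by rw [← MonObj.comp_pow, hzn, MonObj.comp_one]
  have hTφ : T ≫ (𝟙 G) ^ n = (𝟙 G) ^ n := by
    rw [MonObj.comp_pow, Category.comp_id, hc.inv_right.mul_pow, inv_pow, hcn, inv_one, mul_one]
  have hzT : z ≫ T = η[G] := by
    simp only [T, c, MonObj.comp_mul, GrpObj.comp_inv, Category.comp_id, ← Category.assoc]
    rw [comp_toUnit, toUnit_unique (toUnit (𝟙_ _)) (𝟙 _), Category.id_comp, mul_inv_cancel, Hom.one_def]
    rw [toUnit_unique (toUnit (𝟙_ _)) (𝟙 _), Category.id_comp]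
  refine ⟨T.left ⁻¹ᵁ U, ?_, ?_⟩
  · show T.left (z.left p) ∈ U
    rw [← Scheme.Hom.comp_apply, ← Over.comp_left, hzT]
    exact hU p
  · rw [← hTφ, Over.comp_left, ← Category.assoc, ← morphismRestrict_ι, Category.assoc]
    haveI := het
    infer_instance

variable {S : Scheme.{u}}

/-- the power map is etale at a central torsion point of invertible order -/
theorem exists_etale_nhd_point (G : Over S) [GrpObj G] [Flat G.hom] [LocallyOfFinitePresentation G.hom] (n : ℕ)
    {K : Type u} [Field K] (hn : (n : K) ≠ 0) (k : Spec (CommRingCat.of K) ⟶ S)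
    (z : 𝟙_ (Over (Spec (CommRingCat.of K))) ⟶ Red.bc k G)
    (hz : ∀ (X : Over (Spec (CommRingCat.of K))) (g : X ⟶ Red.bc k G), g * (toUnit X ≫ z) = (toUnit X ≫ z) * g)
    (hzn : z ^ n = 1) (p : (𝟙_ (Over (Spec (CommRingCat.of K)))).left) :
    ∃ U : G.left.Opens, pullback.fst G.hom k (z.left p) ∈ U ∧ Etale (U.ι ≫ ((𝟙 G : G ⟶ G) ^ n).left) := by
  haveI : LocallyOfFiniteType (Red.bc k G).hom := inferInstanceAs (LocallyOfFiniteType (pullback.snd G.hom k))
  obtain ⟨V, hxV, hV⟩ := exists_etale_nhd_central (Red.bc k G) n hn z hz hzn p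
  rw [← map_pow_id G k n] at hV
  let φ : G ⟶ G := (𝟙 G) ^ n
  let φK := ((Over.pullback k).map φ).left
  change Etale (V.ι ≫ φK) at hV
  -- factor through a residue field
  obtain ⟨s, j, hk⟩ : ∃ (s : S) (j : Spec (CommRingCat.of K) ⟶ Spec (S.residueField s)),
      j ≫ S.fromSpecResidueField s = k :=
    ⟨_, _, Scheme.descResidueField_stalkClosedPointTo_fromSpecResidueField K S k⟩
  haveI : Flat j := by
    rw [← Spec.map_preimage j, HasRingHomProperty.Spec_iff (P := @Flat)]
    letI := (Spec.preimage j).hom.toAlgebra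
    exact RingHom.flat_algebraMap_iff.2 (inferInstanceAs (Module.Flat (S.residueField s) K))
  let h := G.hom
  let φs : h.fiber s ⟶ h.fiber s := CohIII.fiberMapOver φ.left h h (Over.w φ) s
  let m : pullback G.hom k ⟶ h.fiber s :=
    pullback.lift (pullback.fst G.hom k) (pullback.snd G.hom k ≫ j) (by
      rw [Category.assoc, hk, pullback.condition])
  have hm1 : m ≫ pullback.fst G.hom (S.fromSpecResidueField s) = pullback.fst G.hom k := pullback.lift_fst _ _ _
  have hm2 : m ≫ pullback.snd G.hom (S.fromSpecResidueField s) = pullback.snd G.hom k ≫ j := pullback.lift_snd _ _ _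
  have sq0 : IsPullback m (pullback.snd G.hom k) (pullback.snd G.hom (S.fromSpecResidueField s)) j :=
    IsPullback.of_right (by rw [hm1, hk]; exact IsPullback.of_hasPullback G.hom k) hm2
      (IsPullback.of_hasPullback G.hom (S.fromSpecResidueField s))
  haveI : Flat m := MorphismProperty.of_isPullback sq0.flip (inferInstance : Flat j)
  have hφK2 : φK ≫ pullback.snd G.hom k = pullback.snd G.hom k := MTBridge.map_left_snd k φ
  have hφs2 : φs ≫ pullback.snd G.hom (S.fromSpecResidueField s) = pullback.snd G.hom (S.fromSpecResidueField s) :=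
    (pullback.lift_snd _ _ _).trans (Category.comp_id _)
  have hφs1 : φs ≫ pullback.fst G.hom (S.fromSpecResidueField s) =
      pullback.fst G.hom (S.fromSpecResidueField s) ≫ φ.left := pullback.lift_fst _ _ _
  have hcomm : m ≫ φs = φK ≫ m := by
    apply pullback.hom_ext
    · rw [Category.assoc, hφs1, reassoc_of% hm1, Category.assoc, hm1]
      exact (MTBridge.map_left_fst k φ).symm
    · rw [Category.assoc, hφs2, hm2, Category.assoc, hm2, reassoc_of% hφK2]
  have sq1 : IsPullback m φK φs m :=
    IsPullback.of_bot (by rw [hφK2, hφs2]; exact sq0) hcomm sq0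
  let e := sq1.isoPullback
  have he2 : e.inv ≫ φK = pullback.snd φs m := sq1.isoPullback_inv_snd
  have he1 : e.inv ≫ m = pullback.fst φs m := sq1.isoPullback_inv_fst
  haveI : LocallyOfFinitePresentation φs := by
    haveI : LocallyOfFinitePresentation (φs ≫ pullback.snd G.hom (S.fromSpecResidueField s)) := by
      rw [hφs2]; infer_instance
    exact LimDesc.lfp_of_comp φs (pullback.snd G.hom (S.fromSpecResidueField s))
  haveI := hV
  obtain ⟨V', hxV', hV'⟩ := Groth.Agent.S2758.result φs m (e.hom (z.left p)) (Flat.stalkMap m _)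
    ⟨e.inv ⁻¹ᵁ V, by
      show e.inv (e.hom (z.left p)) ∈ V
      rw [← Scheme.Hom.comp_apply, e.hom_inv_id]; exact hxV,
     by rw [← he2, ← Category.assoc, ← morphismRestrict_ι, Category.assoc]; infer_instance⟩
  rw [← he1, Scheme.Hom.comp_apply, ← Scheme.Hom.comp_apply e.hom, e.hom_inv_id] at hxV'
  let x' : h.fiber s := m (z.left p)
  have hx'V : x' ∈ V' := hxV'
  have hs : h ((h.fiberι s) x') = s := by
    show (m ≫ pullback.fst G.hom (S.fromSpecResidueField s) ≫ G.hom) (z.left p) = s
    rw [pullback.condition, Scheme.Hom.comp_apply, Scheme.Hom.comp_apply]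
    exact Scheme.fromSpecResidueField_apply _ _
  obtain ⟨U, hxU, hU⟩ : ∃ U : G.left.Opens, (h.fiberι s) x' ∈ U ∧ Etale (U.ι ≫ φ.left) := by
    have key : ∀ (x : G.left) (t : S) (x' : h.fiber t) (V' : (h.fiber t).Opens), x' ∈ V' →
        Etale (V'.ι ≫ CohIII.fiberMapOver φ.left h h (Over.w φ) t) → (h.fiberι t) x' = x → h x = t →
        ∃ U : G.left.Opens, x ∈ U ∧ Etale (U.ι ≫ φ.left) := by
      intro x t x' V' h1 h2 h3 h4
      subst h4
      exact (Groth.Agent.S16764.result h h φ.left (Over.w φ) x (Flat.stalkMap h x) x' h3).2 ⟨V', h1, h2⟩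
    exact key _ s x' V' hx'V hV' rfl hs
  refine ⟨U, ?_, hU⟩
  rw [← hm1, Scheme.Hom.comp_apply]
  exact hxU

end Groth.Agent.CentralLift
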