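import Groth.Agent.MTBridge.TrivLocus
import Groth.Agent.MTBridge.ExtCentral
import Groth.Agent.MTBridge.SubgroupsClopen
import Groth.Agent.MTBridge.BaseChange
import Groth.Agent.MTBridge.FlatMT
import Groth.Agent.MTBridge.EssFree
import Groth.Agent.MTDescent.CentralDescent
import Groth.Agent.MultT.HenselSplit
import Groth.Agent.FinHopf.Power
import Groth.Agent.SmoothRed.Basic
import Mathlib

/-!
# Finite smooth groups of multiplicative type are killed, locally on the base, by an invertible integer
-/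

set_option autoImplicit false
set_option linter.style.haveILetI false
set_option backward.isDefEq.respectTransparency false
set_option maxHeartbeats 1000000
set_option synthInstance.maxHeartbeats 400000

universe u

open CategoryTheory Limits MonoidalCategory CartesianMonoidalCategory AlgebraicGeometry TensorProduct WithConv
open scoped CategoryTheory.Obj MonObj
open Groth.Agent.MTBridge (specGrp pt pt_pow_eq_one_iff)

noncomputable section

namespace Groth.Agent.CentralLift

/-- a finite diagonalisable reduced algebra has rank invertible in the field -/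
theorem card_ne_zero {L : Type u} [Field L] {M : Type u} [CommGroup M] [Fintype M]
    (hred : _root_.IsReduced (MonoidAlgebra L M)) : (Fintype.card M : L) ≠ 0 := by
  intro h0
  obtain ⟨p, hp⟩ := CharP.exists L
  rw [CharP.cast_eq_zero_iff L p] at h0
  have hp' : p.Prime := by
    rcases CharP.char_is_prime_or_zero L p with h | rfl
    · exact h
    · exact absurd (zero_dvd_iff.1 h0) Fintype.card_ne_zero
  haveI := Fact.mk hp'
  obtain ⟨m, hm⟩ := exists_prime_orderOf_dvd_card p h0
  haveI : ExpChar L p := ExpChar.prime hp'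
  haveI : CharP (MonoidAlgebra L M) p := charP_of_injective_algebraMap
    (RingHom.injective (algebraMap L (MonoidAlgebra L M))) p
  have hx : (MonoidAlgebra.of L M m - 1) ^ p = 0 := by
    rw [sub_pow_char, one_pow, ← map_pow, ← hm, pow_orderOf_eq_one, map_one, sub_self]
  have h1 := hred.eq_zero _ ⟨p, hx⟩
  rw [sub_eq_zero, ← map_one (MonoidAlgebra.of L M)] at h1
  rw [MonoidAlgebra.of_injective h1, orderOf_one] at hm
  exact hp'.one_lt.ne hm

/-- over a field -/
theorem finrank_ne_zero {K A : Type u} [Field K] [CommRing A] [HopfAlgebra K A] [Module.Finite K A]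
    [Algebra.Smooth K A] (hA : SGA3b.IsMultType K A) : (Module.finrank K A : K) ≠ 0 := by
  haveI : Algebra.FiniteType K A := inferInstance
  obtain ⟨T, _, _, _, _, hff, hd⟩ := MultT.isIsotrivial_of_henselian hA
  haveI := hff
  haveI : Nontrivial T := by
    by_contra h
    rw [not_nontrivial_iff_subsingleton] at h
    obtain ⟨Q, -⟩ := PrimeSpectrum.comap_surjective_of_faithfullyFlat (A := K) (B := T) ⟨⊥, Ideal.isPrime_bot⟩
    exact Q.2.ne_top (Subsingleton.elim _ _)
  obtain ⟨m, hm⟩ := Ideal.exists_maximal T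
  haveI := hm
  let L := T ⧸ m
  letI : Field L := Ideal.Quotient.field m
  obtain ⟨M, _, ⟨e⟩⟩ := MultT.isDiag_baseChange hd L
  haveI : Module.Finite L (MonoidAlgebra L M) := Module.Finite.equiv e.toAlgEquiv.toLinearEquiv
  haveI : Finite M := Module.Finite.finite_basis (MonoidAlgebra.basis M L)
  haveI := Fintype.ofFinite M
  haveI : _root_.IsReduced (L ⊗[K] A) := SmoothRed.isReduced_of_smooth L _
  have hred : _root_.IsReduced (MonoidAlgebra L M) :=
    isReduced_of_injective e.toAlgEquiv.symm e.toAlgEquiv.symm.injective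
  have hn : Module.finrank K A = Fintype.card M := by
    rw [← Module.finrank_baseChange (R := L) (S := K) (M' := A), e.toAlgEquiv.toLinearEquiv.finrank_eq,
      Module.finrank_eq_card_basis (MonoidAlgebra.basis M L)]
  intro h0
  refine card_ne_zero hred ?_
  rw [← hn, ← map_natCast (algebraMap K L), h0, map_zero]

theorem exists_exponent_field {K : Type u} [Field K] (H : Over (Spec (CommRingCat.of K))) [GrpObj H]
    [IsFinite H.hom] [Smooth H.hom] (hH : SGA3x.IsMultTypeFT H) :
    ∃ n : ℕ, (n : K) ≠ 0 ∧ (𝟙 H : H ⟶ H) ^ n = 1 := by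
  obtain ⟨A, _, _, hA, ⟨e⟩⟩ := MTBridge.exists_hopf_of_locally H (MTBridge.locally_of_isMultTypeFT' H hH)
  have he : e.hom.hom.hom.left ≫ Spec.map (CommRingCat.ofHom (algebraMap K A)) = H.hom := Over.w e.hom.hom.hom
  haveI : IsIso e.hom.hom.hom.left :=
    ((Over.forget _).mapIso ((Grp.forget _).mapIso e)).isIso_hom
  have he' : Spec.map (CommRingCat.ofHom (algebraMap K A)) = inv e.hom.hom.hom.left ≫ H.hom := by
    rw [IsIso.eq_inv_comp, he]
  haveI : IsFinite (Spec.map (CommRingCat.ofHom (algebraMap K A))) := by rw [he']; infer_instance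
  haveI : Smooth (Spec.map (CommRingCat.ofHom (algebraMap K A))) := by rw [he']; infer_instance
  haveI : Module.Finite K A := RingHom.finite_algebraMap.1 ((IsFinite.SpecMap_iff (CommRingCat.ofHom (algebraMap K A))).1 inferInstance)
  haveI : Algebra.Smooth K A := RingHom.smooth_algebraMap.1
    ((HasRingHomProperty.Spec_iff (P := @Smooth) (φ := CommRingCat.ofHom (algebraMap K A))).1 inferInstance)
  refine ⟨Module.finrank K A, finrank_ne_zero hA, ?_⟩
  let k : (specGrp K A).X ⟶ H := e.inv.hom.hom
  haveI : IsMonHom k := inferInstanceAs (IsMonHom e.inv.hom.hom)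
  have h1 : (𝟙 (specGrp K A).X : (specGrp K A).X ⟶ (specGrp K A).X) ^ Module.finrank K A = 1 := by
    have hid : pt (toConv (AlgHom.id K A)) = 𝟙 (specGrp K A).X := by
      apply Over.OverMorphism.ext
      rw [MTBridge.pt_left]
      show Spec.map (CommRingCat.ofHom (RingHom.id A)) = 𝟙 _
      rw [CommRingCat.ofHom_id, Spec.map_id]
    rw [← hid]
    show (Spec.mapMulEquiv (toConv (AlgHom.id K A))) ^ _ = 1
    rw [← map_pow, FinHopf.id_pow_finrank K A, map_one]
  have hek : e.hom.hom.hom ≫ k = 𝟙 _ := ((Grp.forget _).mapIso e).hom_inv_id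
  calc (𝟙 H : H ⟶ H) ^ Module.finrank K A = e.hom.hom.hom ≫ (𝟙 _ ^ Module.finrank K A) ≫ k := by
        rw [MonObj.pow_comp, MonObj.comp_pow, Category.id_comp, hek]
    _ = 1 := by rw [h1, MonObj.one_comp, MonObj.comp_one]

variable {S : Scheme.{u}} (H : Over S) [GrpObj H]

theorem toBC_one' {T : Scheme.{u}} (j : T ⟶ S) {X : Over T} : MTBridge.toBC j (1 : (Over.map j).obj X ⟶ H) = 1 :=
  mul_eq_left.1 (show MTBridge.toBC j (1 : (Over.map j).obj X ⟶ H) * MTBridge.toBC j 1 = MTBridge.toBC j 1 by
    rw [← MTBridge.toBC_mul, mul_one])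

/-- locally on the base an invertible integer kills the group -/
theorem exists_exponent_nhd [IsFinite H.hom] [Smooth H.hom] (hH : SGA3x.IsMultTypeFT H) (s : S) :
    ∃ (n : ℕ) (U : S.Opens), s ∈ U ∧ (∀ t : S, t ∈ U → (n : S.residueField t) ≠ 0) ∧
      ∀ (X : Over S), (∀ x, X.hom x ∈ U) → ∀ a : X ⟶ H, a ^ n = 1 := by
  let K := S.residueField s
  let q := S.fromSpecResidueField s
  haveI : IsFinite (Red.bc q H).hom := inferInstanceAs (IsFinite (pullback.snd H.hom q))
  haveI : Smooth (Red.bc q H).hom := inferInstanceAs (Smooth (pullback.snd H.hom q))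
  obtain ⟨n, hn, hpow⟩ := exists_exponent_field (K := K) (Red.bc q H) (MTBridge.isMultTypeFT_bc H q hH)
  haveI : IsMonHom ((𝟙 H : H ⟶ H) ^ n) := MTDescent.isMonHom_of_points _ fun X a b => by
    rw [MonObj.comp_pow, MonObj.comp_pow, MonObj.comp_pow, Category.comp_id, Category.comp_id, Category.comp_id,
      (Commute.mul_pow (MTBridge.comm_points_scheme H (MTBridge.locally_of_isMultTypeFT' H hH) a b) n)]
  haveI : IsAffineHom H.hom := inferInstance
  obtain ⟨U, -, hU, hU1⟩ := MTBridge.exists_clopen_trivial H H hH (Or.inr inferInstance) ((𝟙 H : H ⟶ H) ^ n)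
  have hmap : ∀ {T : Scheme.{u}} (g : T ⟶ S), (Over.pullback g).map ((𝟙 H : H ⟶ H) ^ n) = (𝟙 (Red.bc g H)) ^ n :=
    fun g => by
      have hp : ∀ k : ℕ, (Over.pullback g).map ((𝟙 H : H ⟶ H) ^ k) = (𝟙 (Red.bc g H)) ^ k := by
        intro k
        induction k with
        | zero => simp only [pow_zero]; exact Functor.map_one _
        | succ k ih => rw [pow_succ, pow_succ, Functor.map_mul, ih, CategoryTheory.Functor.map_id]
      exact hp n
  let W : S.Opens := S.basicOpen (n : Γ(S, ⊤))
  have hsW : ∀ t : S, t ∈ W ↔ (n : S.residueField t) ≠ 0 := fun t => by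
    rw [← Scheme.evaluation_ne_zero_iff_mem_basicOpen S t (U := ⊤) (TopologicalSpace.Opens.mem_top t) _, map_natCast]
  refine ⟨n, U ⊓ W, ⟨(hU s).2 (by rw [hmap]; exact hpow), (hsW s).2 hn⟩, fun t ht => (hsW t).1 ht.2,
    fun X hX a => ?_⟩
  let X₀ : Over (U : Scheme.{u}) := Over.mk (IsOpenImmersion.lift U.ι X.hom (by
    rw [Scheme.Opens.range_ι]; rintro _ ⟨x, rfl⟩; exact (hX x).1))
  let ε : (Over.map U.ι).obj X₀ ≅ X := Over.isoMk (Iso.refl _) (by
    show 𝟙 _ ≫ X.hom = _ ≫ U.ι
    exact (Category.id_comp _).trans (IsOpenImmersion.lift_fac _ _ _).symm)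
  have hb : ∀ b : (Over.map U.ι).obj X₀ ⟶ H, b ^ n = 1 := fun b => by
    apply MTBridge.toBC_inj U.ι
    calc MTBridge.toBC U.ι (b ^ n) = MTBridge.toBC U.ι b ≫ (Over.pullback U.ι).map ((𝟙 H : H ⟶ H) ^ n) := by
          rw [← MTBridge.toBC_comp, MonObj.comp_pow, Category.comp_id]
      _ = 1 := by rw [hU1, MonObj.comp_one]
      _ = MTBridge.toBC U.ι 1 := (toBC_one' H U.ι).symm
  rw [← cancel_epi ε.hom, MonObj.comp_pow, hb, MonObj.comp_one]

end Groth.Agent.CentralLift
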