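import Groth.Agent.CentralLift.Main
import Groth.Agent.CentralLift.Exponent
import Mathlib

/-!
# Lifting central homomorphisms along a surjective closed immersion
-/

set_option autoImplicit false
set_option linter.style.haveILetI false
set_option linter.unusedSectionVars false
set_option backward.isDefEq.respectTransparency false
set_option maxHeartbeats 1000000
set_option synthInstance.maxHeartbeats 400000

universe u

open CategoryTheory Limits MonoidalCategory CartesianMonoidalCategory AlgebraicGeometry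
open scoped CategoryTheory.Obj MonObj

noncomputable section

namespace Groth.Agent.CentralLift

variable {S S₀ : Scheme.{u}} (q : S₀ ⟶ S) {G H : Over S}

/-- an object over the subscheme, transported -/
def mapIsoQ {X : Over S} (p : X ⟶ Over.mk q) : (Over.map q).obj (Over.mk p.left) ≅ X :=
  Over.isoMk (Iso.refl _) (by simpa using (Over.w p).symm)

/-- from the base change -/
def fromQ {X : Over S₀} {G : Over S} (p : X ⟶ Red.bc q G) : (Over.map q).obj X ⟶ G :=
  ((Over.mapPullbackAdj q).homEquiv X G).symm p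

theorem toBC_fromQ {X : Over S₀} (p : X ⟶ Red.bc q G) : MTBridge.toBC q (fromQ q p) = p :=
  ((Over.mapPullbackAdj q).homEquiv X G).apply_symm_apply p

theorem fromQ_toBC {X : Over S₀} (p : (Over.map q).obj X ⟶ G) : fromQ q (MTBridge.toBC q p) = p :=
  ((Over.mapPullbackAdj q).homEquiv X G).symm_apply_apply p

theorem fromQ_comp {X X' : Over S₀} (b : X' ⟶ X) (p : X ⟶ Red.bc q G) :
    fromQ q (b ≫ p) = (Over.map q).map b ≫ fromQ q p :=
  (Over.mapPullbackAdj q).homEquiv_naturality_left_symm b p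

theorem fromQ_comp_map (u : H ⟶ G) {X : Over S₀} (p : X ⟶ Red.bc q H) :
    fromQ q (p ≫ (Over.pullback q).map u) = fromQ q p ≫ u :=
  (Over.mapPullbackAdj q).homEquiv_naturality_right_symm p u

theorem fromQ_mul [GrpObj G] {X : Over S₀} (a b : X ⟶ Red.bc q G) : fromQ q (a * b) = fromQ q a * fromQ q b := by
  apply ((Over.mapPullbackAdj q).homEquiv X G).injective
  show MTBridge.toBC q _ = MTBridge.toBC q _
  rw [MTBridge.toBC_mul, toBC_fromQ, toBC_fromQ, toBC_fromQ]

/-- the value of a morphism of base changes on points over the subscheme -/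
def val (u₀ : Red.bc q H ⟶ Red.bc q G) {X : Over S} (p : X ⟶ Over.mk q) (x : X ⟶ H) : X ⟶ G :=
  (mapIsoQ q p).inv ≫ fromQ q (MTBridge.toBC q ((mapIsoQ q p).hom ≫ x) ≫ u₀)

theorem val_map (u : H ⟶ G) {X : Over S} (p : X ⟶ Over.mk q) (x : X ⟶ H) :
    val q ((Over.pullback q).map u) p x = x ≫ u := by
  rw [val, fromQ_comp_map, fromQ_toBC, Category.assoc, Iso.inv_hom_id_assoc]

/-- the point over the subscheme of a transported object -/
def toMkQ (X : Over S₀) : (Over.map q).obj X ⟶ Over.mk q := Over.homMk X.hom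

theorem val_self (u₀ : Red.bc q H ⟶ Red.bc q G) (Y : Over S₀) (x : (Over.map q).obj Y ⟶ H) :
    val q u₀ (toMkQ q Y) x = fromQ q (MTBridge.toBC q x ≫ u₀) := by
  have h : mapIsoQ q (toMkQ q Y) = Iso.refl _ := Iso.ext (Over.OverMorphism.ext rfl)
  rw [val, h]
  exact (Category.id_comp _).trans (by rw [Iso.refl_hom, Category.id_comp])

variable [Mono q]

theorem val_nat (u₀ : Red.bc q H ⟶ Red.bc q G) {X X' : Over S} (b : X' ⟶ X)
    (p : X ⟶ Over.mk q) (p' : X' ⟶ Over.mk q) (x : X ⟶ H) : b ≫ val q u₀ p x = val q u₀ p' (b ≫ x) := by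
  obtain rfl : p' = b ≫ p :=
    Over.OverMorphism.ext ((cancel_mono q).1 ((Over.w p').trans (Over.w (b ≫ p)).symm))
  let b₀ : Over.mk (b ≫ p).left ⟶ Over.mk p.left := Over.homMk b.left
  have h : (mapIsoQ q (b ≫ p)).hom ≫ b = (Over.map q).map b₀ ≫ (mapIsoQ q p).hom := by
    apply Over.OverMorphism.ext
    show 𝟙 _ ≫ b.left = b.left ≫ 𝟙 _
    rw [Category.id_comp, Category.comp_id]
  rw [val, val, ← cancel_epi (mapIsoQ q (b ≫ p)).hom, Iso.hom_inv_id_assoc, reassoc_of% h, Iso.hom_inv_id_assoc,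
    ← fromQ_comp, ← Category.assoc b₀, ← MTBridge.toBC_naturality, reassoc_of% h]

variable [GrpObj G] [GrpObj H]

/-- the datum of a central homomorphism of base changes -/
def datum (u₀ : Red.bc q H ⟶ Red.bc q G) [IsMonHom u₀]
    (hc₀ : ∀ (X : Over S₀) (x : X ⟶ Red.bc q H) (g : X ⟶ Red.bc q G), (x ≫ u₀) * g = g * (x ≫ u₀)) :
    Datum G H (Over.mk q) where
  v p a := val q u₀ p a
  nat b p p' a := val_nat q u₀ b p p' a
  mul p a a' := by
    rw [val, val, val, MonObj.comp_mul, MTBridge.toBC_mul, MonObj.mul_comp, fromQ_mul, MonObj.comp_mul]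
  central {Z} p a g := by
    rw [← cancel_epi (mapIsoQ q p).hom, MonObj.comp_mul, MonObj.comp_mul, val, Iso.hom_inv_id_assoc]
    apply MTBridge.toBC_inj q
    rw [MTBridge.toBC_mul, MTBridge.toBC_mul, toBC_fromQ]
    exact (hc₀ _ _ _).symm

theorem lifts_iff (u₀ : Red.bc q H ⟶ Red.bc q G) [IsMonHom u₀]
    (hc₀ : ∀ (X : Over S₀) (x : X ⟶ Red.bc q H) (g : X ⟶ Red.bc q G), (x ≫ u₀) * g = g * (x ≫ u₀)) (u : H ⟶ G) :
    Lifts (datum q u₀ hc₀) (𝟙 H) u ↔ (Over.pullback q).map u = u₀ := by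
  constructor
  · intro h
    have h1 := h _ (toMkQ q (Red.bc q H)) (fromQ q (𝟙 (Red.bc q H)))
    rw [← fromQ_comp_map, Category.id_comp, Category.comp_id] at h1
    change fromQ q _ = val q u₀ _ _ at h1
    rw [val_self, toBC_fromQ, Category.id_comp] at h1
    have h2 := congrArg (MTBridge.toBC q) h1
    rwa [toBC_fromQ, toBC_fromQ] at h2
  · rintro rfl Z p x
    rw [Category.comp_id]
    exact (val_map q u p x).symm

theorem covered [IsFinite H.hom] [Smooth H.hom] (hH : SGA3x.IsMultTypeFT H) : Covered H := fun h => by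
  obtain ⟨n, U, hs, hinv, hpow⟩ := exists_exponent_nhd H hH (H.hom h)
  let X : Over S := Over.mk ((H.hom ⁻¹ᵁ U).ι ≫ H.hom)
  have hX : ∀ x : X.left, X.hom x ∈ U := fun x => (show (H.hom ⁻¹ᵁ U).toScheme from x).2
  exact ⟨n, H.hom ⁻¹ᵁ U, hs, fun x => hinv _ (hX x), hpow X hX _⟩

/-- **Central homomorphisms from finite smooth groups of multiplicative type into flat groups lift uniquely
along surjective closed immersions.** -/
theorem exists_unique_central_lift [IsClosedImmersion q] [Surjective q] [Flat G.hom]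
    [LocallyOfFinitePresentation G.hom] [IsFinite H.hom] [Smooth H.hom] (hH : SGA3x.IsMultTypeFT H)
    (u₀ : Red.bc q H ⟶ Red.bc q G) [IsMonHom u₀]
    (hc₀ : ∀ (X : Over S₀) (x : X ⟶ Red.bc q H) (g : X ⟶ Red.bc q G), (x ≫ u₀) * g = g * (x ≫ u₀)) :
    ∃ u : H ⟶ G, IsMonHom u ∧ (Over.pullback q).map u = u₀ ∧
      (∀ (X : Over S) (x : X ⟶ H) (g : X ⟶ G), (x ≫ u) * g = g * (x ≫ u)) ∧
      ∀ u' : H ⟶ G, IsMonHom u' → (Over.pullback q).map u' = u₀ → u' = u := by
  haveI : IsClosedImmersion (Over.mk q).hom := ‹IsClosedImmersion q›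
  haveI : Surjective (Over.mk q).hom := ‹Surjective q›
  haveI : Mono (Over.mk q).hom := ‹Mono q›
  obtain ⟨u, h1, h2, h3, h4⟩ := exists_lift_hom (datum q u₀ hc₀) (covered hH)
  exact ⟨u, h1, (lifts_iff q u₀ hc₀ u).1 h2, h3, fun u' hu' h => h4 u' hu' ((lifts_iff q u₀ hc₀ u').2 h)⟩

end Groth.Agent.CentralLift
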