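import Groth.Agent.CentralLift.Scheme
import Groth.Agent.CentralLift.EtalePoint
import Groth.Agent.MTDescent.SubgroupDescent
import Groth.Agent.MTBridge.ExtCentral
import Mathlib

/-!
# Central homomorphisms from finite smooth groups of multiplicative type lift uniquely along nil immersions
-/

set_option autoImplicit false
set_option linter.style.haveILetI false
set_option linter.unusedSectionVars false
set_option backward.isDefEq.respectTransparency false
set_option maxHeartbeats 1000000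
set_option synthInstance.maxHeartbeats 400000

universe u

open CategoryTheory Limits MonoidalCategory CartesianMonoidalCategory AlgebraicGeometry
open scoped CategoryTheory.Obj MonObj

noncomputable section

namespace Groth.Agent.CentralLift

variable {S : Scheme.{u}}

/-- an integer is invertible at a point of the base -/
def Inv (n : ℕ) (s : S) : Prop := (n : S.residueField s) ≠ 0

theorem Inv.mul {n m : ℕ} {s : S} (h : Inv n s) (h' : Inv m s) : Inv (n * m) s := by
  show ((n * m : ℕ) : S.residueField s) ≠ 0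
  rw [Nat.cast_mul]
  exact mul_ne_zero h h'

variable (G H P : Over S) [GrpObj G] [GrpObj H]

/-- a central homomorphism over the subscheme `P`, on points -/
structure Datum where
  /-- the values -/
  v : ∀ {Z : Over S}, (Z ⟶ P) → (Z ⟶ H) → (Z ⟶ G)
  nat : ∀ {Z Z' : Over S} (b : Z' ⟶ Z) (p : Z ⟶ P) (p' : Z' ⟶ P) (a : Z ⟶ H), b ≫ v p a = v p' (b ≫ a)
  mul : ∀ {Z : Over S} (p : Z ⟶ P) (a a' : Z ⟶ H), v p (a * a') = v p a * v p a'
  central : ∀ {Z : Over S} (p : Z ⟶ P) (a : Z ⟶ H) (g : Z ⟶ G), g * v p a = v p a * g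

variable {G H P} (D : Datum G H P)

theorem Datum.one {Z : Over S} (p : Z ⟶ P) : D.v p (1 : Z ⟶ H) = 1 :=
  mul_eq_left.1 (show D.v p 1 * D.v p 1 = D.v p 1 by rw [← D.mul, mul_one])

theorem Datum.pow {Z : Over S} (p : Z ⟶ P) (a : Z ⟶ H) (n : ℕ) : D.v p (a ^ n) = D.v p a ^ n := by
  induction n with
  | zero => rw [pow_zero, pow_zero, D.one]
  | succ n ih => rw [pow_succ, pow_succ, D.mul, ih]

/-- `a` is killed by `n`, invertible on the image -/
def Good (n : ℕ) {X : Over S} (a : X ⟶ H) : Prop := (∀ x : X.left, Inv n (X.hom x)) ∧ a ^ n = 1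

theorem Good.comp {n : ℕ} {X X' : Over S} {a : X ⟶ H} (h : Good n a) (b : X' ⟶ X) : Good n (b ≫ a) := by
  refine ⟨fun x => ?_, by rw [← MonObj.comp_pow, h.2, MonObj.comp_one]⟩
  rw [← Over.w b, Scheme.Hom.comp_apply]
  exact h.1 _

theorem Good.mul_right {n m : ℕ} {X : Over S} {a : X ⟶ H} (h : Good n a) (hm : ∀ x : X.left, Inv m (X.hom x)) :
    Good (n * m) a :=
  ⟨fun x => (h.1 x).mul (hm x), by rw [pow_mul, h.2, one_pow]⟩

/-- `b` restricts to the value of `a` over `P` -/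
def Lifts {X : Over S} (a : X ⟶ H) (b : X ⟶ G) : Prop :=
  ∀ (Z : Over S) (p : Z ⟶ P) (x : Z ⟶ X), x ≫ b = D.v p (x ≫ a)

theorem Lifts.comp {X X' : Over S} {a : X ⟶ H} {b : X ⟶ G} (h : Lifts D a b) (f : X' ⟶ X) :
    Lifts D (f ≫ a) (f ≫ b) := fun Z p x => by
  rw [← Category.assoc, h Z p, Category.assoc]

variable [Mono P.hom]

theorem pt_ext {Z : Over S} (p p' : Z ⟶ P) : p = p' :=
  Over.OverMorphism.ext ((cancel_mono P.hom).1 ((Over.w p).trans (Over.w p').symm))

theorem lifts_of_univ {X : Over S} {a : X ⟶ H} {b : X ⟶ G}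
    (h : fst X P ≫ b = D.v (snd X P) (fst X P ≫ a)) : Lifts D a b := fun Z p x => by
  conv_lhs => rw [show x = lift x p ≫ fst X P from (lift_fst _ _).symm, Category.assoc, h,
    D.nat (lift x p) _ p, lift_fst_assoc]

variable [IsClosedImmersion P.hom] [Surjective P.hom]

instance surjective_fst (X : Over S) : Surjective (fst X P).left :=
  inferInstanceAs (Surjective (pullback.fst X.hom P.hom))

instance isClosedImmersion_fst (X : Over S) : IsClosedImmersion (fst X P).left :=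
  inferInstanceAs (IsClosedImmersion (pullback.fst X.hom P.hom))

variable [Flat G.hom] [LocallyOfFinitePresentation G.hom]

/-- the locus where the power map is etale -/
abbrev powLocus (G : Over S) [GrpObj G] (n : ℕ) : G.left.Opens := etaleUnion ((𝟙 G : G ⟶ G) ^ n).left

theorem toBC_pow' {T : Scheme.{u}} (k : T ⟶ S) {X : Over T} (w : (Over.map k).obj X ⟶ G) (n : ℕ) :
    MTBridge.toBC k (w ^ n) = MTBridge.toBC k w ^ n := by
  induction n with
  | zero =>
    rw [pow_zero, pow_zero]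
    exact mul_eq_left.1 (show MTBridge.toBC k (1 : (Over.map k).obj X ⟶ G) * MTBridge.toBC k 1 = MTBridge.toBC k 1 by
      rw [← MTBridge.toBC_mul, mul_one])
  | succ n ih => rw [pow_succ, pow_succ, MTBridge.toBC_mul, ih]

theorem value_mem {n : ℕ} {Z : Over S} (p : Z ⟶ P) {a : Z ⟶ H} (ha : Good n a) (y : Z.left) :
    (D.v p a).left y ∈ powLocus G n := by
  let K := Z.left.residueField y
  let ξ := Z.left.fromSpecResidueField y
  let k := ξ ≫ Z.hom
  let ξ' : (Over.map k).obj (𝟙_ (Over (Spec (CommRingCat.of K)))) ⟶ Z := Over.homMk ξ (by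
    show ξ ≫ Z.hom = 𝟙 _ ≫ k
    rw [Category.id_comp])
  let w := ξ' ≫ D.v p a
  have hn : (n : K) ≠ 0 := by
    intro h0
    refine ha.1 y ((Z.hom.residueFieldMap y).hom.injective ?_)
    rw [map_natCast, map_zero]
    exact h0
  obtain ⟨U, hU, het⟩ := exists_etale_nhd_point G n hn k (MTBridge.toBC k w) (fun X g => by
      obtain ⟨g', rfl⟩ : ∃ g' : (Over.map k).obj X ⟶ G, MTBridge.toBC k g' = g :=
        ⟨((Over.mapPullbackAdj k).homEquiv X G).symm g, ((Over.mapPullbackAdj k).homEquiv X G).apply_symm_apply g⟩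
      rw [← MTBridge.toBC_naturality, ← MTBridge.toBC_mul, ← MTBridge.toBC_mul]
      congr 1
      simp only [w, ← Category.assoc]
      rw [D.nat _ p (((Over.map k).map (toUnit X) ≫ ξ') ≫ p)]
      exact D.central _ _ g')
    (by
      rw [← toBC_pow', ← MonObj.comp_pow, ← D.pow, ha.2, D.one, MonObj.comp_one]
      exact (pow_zero (MTBridge.toBC k w)) ▸ (pow_zero w ▸ toBC_pow' k w 0))
    (IsLocalRing.closedPoint K)
  refine le_etaleUnion _ het ?_
  have h1 : (MTBridge.toBC k w).left ≫ pullback.fst G.hom k = ξ ≫ (D.v p a).left :=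
    MTDescent.left_toBC_fst_eq k w
  have h2 := congrArg (fun m => m (IsLocalRing.closedPoint K)) h1
  simp only [Scheme.Hom.comp_apply] at h2
  rw [show (D.v p a).left y = (D.v p a).left (ξ (IsLocalRing.closedPoint K)) by
    rw [Scheme.fromSpecResidueField_apply]]
  exact h2 ▸ hU

theorem lift_mem {n : ℕ} {X : Over S} {a : X ⟶ H} {b : X ⟶ G} (ha : Good n a) (hb : Lifts D a b) (x : X.left) :
    b.left x ∈ powLocus G n := by
  obtain ⟨y, rfl⟩ := (fst X P).left.surjective x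
  rw [← Scheme.Hom.comp_apply, ← Over.comp_left, hb _ (snd X P) (fst X P)]
  exact value_mem D _ (ha.comp _) y

/-- lifts killed by an invertible exponent are unique -/
theorem lift_unique {n : ℕ} {X : Over S} {a : X ⟶ H} {b b' : X ⟶ G} (ha : Good n a) (hb : Lifts D a b)
    (hb' : Lifts D a b') (hpow : b ^ n = b' ^ n) : b = b' := by
  let U := powLocus G n
  let c := IsOpenImmersion.lift U.ι b.left (by rw [Scheme.Opens.range_ι]; rintro _ ⟨x, rfl⟩; exact lift_mem D ha hb x)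
  let c' := IsOpenImmersion.lift U.ι b'.left (by rw [Scheme.Opens.range_ι]; rintro _ ⟨x, rfl⟩; exact lift_mem D ha hb' x)
  have hc : c ≫ U.ι = b.left := IsOpenImmersion.lift_fac _ _ _
  have hc' : c' ≫ U.ι = b'.left := IsOpenImmersion.lift_fac _ _ _
  refine Over.OverMorphism.ext ?_
  rw [← hc, ← hc']
  refine congrArg (· ≫ U.ι) (eq_of_surjective (U.ι ≫ ((𝟙 G : G ⟶ G) ^ n).left) c c' ?_ (fst X P).left ?_)
  · rw [reassoc_of% hc, reassoc_of% hc', ← Over.comp_left, ← Over.comp_left, MonObj.comp_pow, MonObj.comp_pow,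
      Category.comp_id, Category.comp_id, hpow]
  · rw [← cancel_mono U.ι, Category.assoc, Category.assoc, hc, hc', ← Over.comp_left, ← Over.comp_left,
      hb _ (snd X P) (fst X P), hb' _ (snd X P) (fst X P)]

/-- lifts killed by an invertible exponent exist -/
theorem exists_lift {n : ℕ} {X : Over S} {a : X ⟶ H} (ha : Good n a) :
    ∃ b : X ⟶ G, b ^ n = 1 ∧ Lifts D a b := by
  let U := powLocus G n
  let φ : G ⟶ G := (𝟙 G) ^ n
  let val := D.v (snd X P) (fst X P ≫ a)
  let π := pullback.snd (U.ι ≫ φ.left) (1 : X ⟶ G).left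
  let c := IsOpenImmersion.lift U.ι val.left (by
    rw [Scheme.Opens.range_ι]; rintro _ ⟨y, rfl⟩; exact value_mem D _ (ha.comp _) y)
  have hc : c ≫ U.ι = val.left := IsOpenImmersion.lift_fac _ _ _
  have hval : val ≫ φ = 1 := by
    rw [MonObj.comp_pow, Category.comp_id, ← D.pow, ← MonObj.comp_pow, ha.2, MonObj.comp_one, D.one]
  obtain ⟨s, hs, hs₀⟩ := exists_section_lift π (fst X P).left
    (pullback.lift c (fst X P).left (by
      rw [reassoc_of% hc, ← Over.comp_left, hval, ← Over.comp_left, MonObj.comp_one]))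
    (pullback.lift_snd _ _ _)
  let t := s ≫ pullback.fst (U.ι ≫ φ.left) (1 : X ⟶ G).left ≫ U.ι
  have ht : t ≫ φ.left = (1 : X ⟶ G).left := by
    simp only [t, Category.assoc]
    rw [pullback.condition, reassoc_of% hs]
  refine ⟨Over.homMk t (by rw [← Over.w φ, reassoc_of% ht]; exact Over.w _), ?_, lifts_of_univ D ?_⟩
  · conv_lhs => rw [← Category.comp_id (Over.homMk t _ : X ⟶ G), ← MonObj.comp_pow]
    exact Over.OverMorphism.ext ht
  · apply Over.OverMorphism.ext
    show (fst X P).left ≫ s ≫ _ ≫ U.ι = _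
    rw [reassoc_of% hs₀, pullback.lift_fst_assoc, hc]

/-- every point of `H` has a neighbourhood killed by an invertible exponent -/
def Covered (H : Over S) [GrpObj H] : Prop :=
  ∀ h : H.left, ∃ (n : ℕ) (W : H.left.Opens), h ∈ W ∧ Good n (Over.homMk W.ι : Over.mk (W.ι ≫ H.hom) ⟶ H)

/-- the lifts glue -/
theorem exists_glue (hH : Covered H) :
    ∃ u : H ⟶ G, Lifts D (𝟙 H) u ∧ ∀ {Z : Over S} (a : Z ⟶ H) (f g : Z ⟶ G),
      (∀ (n : ℕ) (Z' : Over S) (i : Z' ⟶ Z), Good n (i ≫ a) → ((i ≫ a) ≫ u) ^ n = 1 → i ≫ f = i ≫ g) → f = g := by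
  choose n W hW hgood using hH
  let X := fun h : H.left => Over.mk ((W h).ι ≫ H.hom)
  let inc := fun h : H.left => (Over.homMk (W h).ι : X h ⟶ H)
  have hloc : ∀ h, ∃ b : X h ⟶ G, b ^ n h = 1 ∧ Lifts D (inc h) b := fun h => exists_lift D (hgood h)
  choose b hbn hb using hloc
  have hcov : TopologicalSpace.IsOpenCover W :=
    top_le_iff.1 fun h _ => TopologicalSpace.Opens.mem_iSup.2 ⟨h, hW h⟩
  let 𝒰 := Scheme.openCoverOfIsOpenCover H.left W hcov
  have hglue : ∀ h h', pullback.fst (𝒰.f h) (𝒰.f h') ≫ (b h).left = pullback.snd (𝒰.f h) (𝒰.f h') ≫ (b h').left := by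
    intro h h'
    let p₁ : Over.mk (pullback.fst (𝒰.f h) (𝒰.f h') ≫ (W h).ι ≫ H.hom) ⟶ X h :=
      Over.homMk (pullback.fst (𝒰.f h) (𝒰.f h'))
    let p₂ : Over.mk (pullback.fst (𝒰.f h) (𝒰.f h') ≫ (W h).ι ≫ H.hom) ⟶ X h' :=
      Over.homMk (pullback.snd (𝒰.f h) (𝒰.f h'))
        ((pullback.condition_assoc (f := 𝒰.f h) (g := 𝒰.f h') H.hom).symm)
    have hp : p₁ ≫ inc h = p₂ ≫ inc h' := Over.OverMorphism.ext (pullback.condition (f := 𝒰.f h) (g := 𝒰.f h'))
    refine congrArg (fun m => m.left) (lift_unique D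
      (((hgood h).comp p₁).mul_right ((hgood h').comp p₂).1) ((hb h).comp D p₁)
      (hp ▸ (hb h').comp D p₂) ?_)
    rw [← MonObj.comp_pow, ← MonObj.comp_pow, pow_mul, hbn, one_pow, mul_comm, pow_mul, hbn, one_pow,
      MonObj.comp_one, MonObj.comp_one]
  obtain ⟨g, hg⟩ : ∃ g : H.left ⟶ G.left, ∀ h, (W h).ι ≫ g = (b h).left :=
    ⟨𝒰.glueMorphisms (fun h => (b h).left) hglue, fun h => 𝒰.ι_glueMorphisms (fun h => (b h).left) hglue h⟩
  have hgw : g ≫ G.hom = H.hom := by
    refine 𝒰.hom_ext _ _ fun h => ?_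
    show (W h).ι ≫ g ≫ G.hom = (W h).ι ≫ H.hom
    rw [← Category.assoc, hg h]
    exact Over.w (b h)
  let u : H ⟶ G := Over.homMk g hgw
  have hu : ∀ h, inc h ≫ u = b h := fun h => Over.OverMorphism.ext (hg h)
  have hext : ∀ {Z : Over S} (a : Z ⟶ H) (f g : Z ⟶ G),
      (∀ (h : H.left) (Z' : Over S) (i : Z' ⟶ Z) (r : Z' ⟶ X h), r ≫ inc h = i ≫ a → i ≫ f = i ≫ g) → f = g := by
    intro Z a f g hfg
    have hcov' : TopologicalSpace.IsOpenCover (fun h => a.left ⁻¹ᵁ W h) := by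
      refine top_le_iff.1 fun x _ => TopologicalSpace.Opens.mem_iSup.2 ⟨a.left x, ?_⟩
      exact hW _
    refine Over.OverMorphism.ext ((Scheme.openCoverOfIsOpenCover Z.left _ hcov').hom_ext _ _ fun h => ?_)
    let i : Over.mk ((a.left ⁻¹ᵁ W h).ι ≫ Z.hom) ⟶ Z := Over.homMk (a.left ⁻¹ᵁ W h).ι
    let r : Over.mk ((a.left ⁻¹ᵁ W h).ι ≫ Z.hom) ⟶ X h := Over.homMk (a.left ∣_ W h) (by
      show (a.left ∣_ _) ≫ _ ≫ H.hom = _ ≫ Z.hom
      rw [morphismRestrict_ι_assoc, Over.w a])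
    exact congrArg (fun m => m.left) (hfg h _ i r (Over.OverMorphism.ext (morphismRestrict_ι _ _)))
  refine ⟨u, lifts_of_univ D (hext (fst H P) _ _ fun h Z' i r hr => ?_), fun {Z} a f g hfg =>
    hext a f g fun h Z' i r hr => hfg (n h) Z' i ?_ ?_⟩
  · rw [← Category.assoc, ← hr, Category.assoc, hu, hb h Z' (i ≫ snd H P) r, D.nat i _ (i ≫ snd H P), hr,
      Category.comp_id]
  · exact hr ▸ (hgood h).comp r
  · rw [← hr, Category.assoc, hu, ← MonObj.comp_pow, hbn, MonObj.comp_one]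

theorem central_of_glue (u : H ⟶ G) (hlift : Lifts D (𝟙 H) u)
    (hext : ∀ {Z : Over S} (a : Z ⟶ H) (f g : Z ⟶ G),
      (∀ (n : ℕ) (Z' : Over S) (i : Z' ⟶ Z), Good n (i ≫ a) → ((i ≫ a) ≫ u) ^ n = 1 → i ≫ f = i ≫ g) → f = g)
    (Z : Over S) (a : Z ⟶ H) (g : Z ⟶ G) : (a ≫ u) * g = g * (a ≫ u) := by
  suffices h : g * (a ≫ u) * g⁻¹ = a ≫ u by
    conv_lhs => rw [← h, inv_mul_cancel_right]
  refine hext a _ _ fun m Z' i hg hp => ?_
  rw [MonObj.comp_mul, MonObj.comp_mul, GrpObj.comp_inv, ← Category.assoc]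
  generalize i ≫ a = a' at hg hp
  refine lift_unique D hg (fun Y p y => ?_) (fun Y p y => ?_) ?_
  · rw [MonObj.comp_mul, MonObj.comp_mul, GrpObj.comp_inv, ← Category.assoc y a' u, hlift Y p, Category.comp_id,
      D.central, mul_inv_cancel_right]
  · rw [← Category.assoc, hlift Y p, Category.comp_id]
  · rw [conj_pow, hp, mul_one, mul_inv_cancel]

theorem lift_mul_eq (u : H ⟶ G) (hlift : Lifts D (𝟙 H) u) {Z : Over S} {a c : Z ⟶ H} {l m m' : ℕ}
    (hm : Good (l * (m * m')) (a * c)) (hpl : ((a * c) ≫ u) ^ l = 1) (hpa : (a ≫ u) ^ m = 1)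
    (hpc : (c ≫ u) ^ m' = 1) (hcomm : Commute (a ≫ u) (c ≫ u)) : (a * c) ≫ u = (a ≫ u) * (c ≫ u) := by
  refine lift_unique D hm (fun Y p y => ?_) (fun Y p y => ?_) ?_
  · rw [← Category.assoc, hlift Y p, Category.comp_id]
  · rw [MonObj.comp_mul, ← Category.assoc, ← Category.assoc, hlift Y p, hlift Y p, Category.comp_id,
      Category.comp_id, MonObj.comp_mul, D.mul]
  · rw [hcomm.mul_pow, pow_mul, hpl, one_pow, show l * (m * m') = m * (l * m') by ring, pow_mul, hpa, one_pow,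
      one_mul, show m * (l * m') = m' * (l * m) by ring, pow_mul, hpc, one_pow]

/-- **the unique central lift** -/
theorem exists_lift_hom (hH : Covered H) :
    ∃ u : H ⟶ G, IsMonHom u ∧ Lifts D (𝟙 H) u ∧
      (∀ (X : Over S) (x : X ⟶ H) (g : X ⟶ G), (x ≫ u) * g = g * (x ≫ u)) ∧
      ∀ u' : H ⟶ G, IsMonHom u' → Lifts D (𝟙 H) u' → u' = u := by
  obtain ⟨u, hlift, hext⟩ := exists_glue D hH
  have hcentral := central_of_glue D u hlift @hext
  refine ⟨u, MTDescent.isMonHom_of_points _ fun Z a c => ?_, hlift, hcentral, fun u' _ hu' => ?_⟩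
  · refine hext a _ _ fun m Z' i hga hpa => ?_
    refine hext (i ≫ c) _ _ fun m' Z'' i' hgc hpc => ?_
    refine hext (i' ≫ i ≫ (a * c)) _ _ fun l Z₃ i'' hgm hpl => ?_
    let j := i'' ≫ i' ≫ i
    have e1 : i'' ≫ i' ≫ i ≫ (a * c) = (j ≫ a) * (j ≫ c) := by
      rw [← MonObj.comp_mul]; simp only [j, Category.assoc]
    have ea : j ≫ a = (i'' ≫ i') ≫ (i ≫ a) := by simp only [j, Category.assoc]
    have ec : j ≫ c = i'' ≫ (i' ≫ i ≫ c) := by simp only [j, Category.assoc]
    have key := lift_mul_eq D u hlift (a := j ≫ a) (c := j ≫ c) (l := l) (m := m) (m' := m')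
      (e1 ▸ hgm.mul_right fun x =>
        (((ea ▸ hga.comp (i'' ≫ i') : Good m (j ≫ a)).1 x).mul ((ec ▸ hgc.comp i'' : Good m' (j ≫ c)).1 x)))
      (e1 ▸ hpl)
      (by rw [ea, Category.assoc, ← MonObj.comp_pow, hpa, MonObj.comp_one])
      (by rw [ec, Category.assoc, ← MonObj.comp_pow, hpc, MonObj.comp_one])
      (hcentral _ _ _)
    rw [← MonObj.comp_mul, Category.assoc, Category.assoc] at key
    simpa only [j, MonObj.comp_mul, Category.assoc] using key
  · refine hext (𝟙 H) _ _ fun m Z i hg hp => ?_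
    rw [Category.comp_id] at hg hp
    refine lift_unique D hg (fun Y p y => ?_) (fun Y p y => ?_) ?_
    · rw [← Category.assoc, hu' Y p, Category.comp_id]
    · rw [← Category.assoc, hlift Y p, Category.comp_id]
    · rw [hp, ← MonObj.pow_comp, hg.2, MonObj.one_comp]

end Groth.Agent.CentralLift
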