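import Groth.Agent.MTBridge.OfHopf
import Groth.Agent.MTFT.Basic
import Mathlib

/-!
# Finite type lifts along nil ideals for groups of multiplicative type
-/

set_option autoImplicit false
set_option linter.style.haveILetI false
set_option backward.isDefEq.respectTransparency false
set_option maxHeartbeats 1000000
set_option synthInstance.maxHeartbeats 400000

universe u

open CategoryTheory Limits MonoidalCategory CartesianMonoidalCategory AlgebraicGeometry TensorProduct Opposite
open TopologicalSpace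
open scoped CategoryTheory.Obj
open Groth.Agent.MTBridge

noncomputable section

namespace Groth.Agent.CentralLift

/-- **A Hopf algebra of multiplicative type and of finite type gives a group of multiplicative type of finite type.** -/
theorem isMultTypeFT_specGrp_of_fg {R A : Type u} [CommRing R] [CommRing A] [HopfAlgebra R A]
    (h : SGA3b.IsMultType R A) (hfgM : ∀ (L : Type u) [CommRing L] [Algebra R L] [Nontrivial L] (M : Type u) [CommGroup M],
      Nonempty (L ⊗[R] A ≃ₐc[L] MonoidAlgebra L M) → Group.FG M) : SGA3x.IsMultTypeFT (specGrp R A).X := by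
  classical
  obtain ⟨s, hs, hc⟩ := h
  obtain ⟨t, hts, ht⟩ := Submodule.mem_span_finite_of_mem_span (show (1 : R) ∈ Ideal.span s by rw [hs]; trivial)
  choose R' iR' iA' hff hd using fun i : t => hc i.1 (hts i.2)
  letI : ∀ i : t, Algebra R (R' i) := fun i => Algebra.compHom (R' i) (algebraMap R (Localization.Away (i : R)))
  haveI : ∀ i : t, IsScalarTower R (Localization.Away (i : R)) (R' i) := fun i => .of_algebraMap_eq fun _ => rfl
  haveI : ∀ i : t, Module.Flat R (R' i) := fun i => by
    haveI := hff i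
    haveI : Module.Flat R (Localization.Away (i : R)) :=
      IsLocalization.flat (Localization.Away (i : R)) (Submonoid.powers (i : R))
    exact Module.Flat.trans R (Localization.Away (i : R)) (R' i)
  choose M iM e using hd
  let ι : Type u := ULift.{u} t
  let g : ι → Scheme.{u} := fun i => Spec (CommRingCat.of (R' i.down))
  let φ : ∀ i : ι, g i ⟶ Spec (CommRingCat.of R) := fun i => Spec.map (CommRingCat.ofHom (algebraMap R (R' i.down)))
  haveI : ∀ i, Flat (φ i) := fun i => by
    show Flat (Spec.map _)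
    rw [HasRingHomProperty.Spec_iff (P := @Flat)]
    exact RingHom.flat_algebraMap_iff.2 inferInstance
  let f : (∐ g) ⟶ Spec (CommRingCat.of R) := Sigma.desc φ
  haveI hflat : Flat f := IsZariskiLocalAtSource.sigmaDesc fun i => inferInstance
  haveI : CompactSpace ↥(∐ g) := (sigmaMk g).compactSpace
  haveI : QuasiCompact f := (quasiCompact_iff_compactSpace (f := f)).2 inferInstance
  have hsurj : Function.Surjective f.base := by
    intro p
    let p' : PrimeSpectrum R := p
    obtain ⟨i, hi⟩ : ∃ i : t, (i : R) ∉ p'.asIdeal := by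
      by_contra hcon
      push Not at hcon
      apply p'.isPrime.ne_top
      rw [Ideal.eq_top_iff_one]
      exact (Submodule.span_le.2 fun x hx => hcon ⟨x, hx⟩) ht
    obtain ⟨q, hq⟩ : p' ∈ Set.range (PrimeSpectrum.comap (algebraMap R (Localization.Away (i : R)))) := by
      rw [PrimeSpectrum.localization_away_comap_range (Localization.Away (i : R)) (i : R)]
      exact hi
    haveI := hff i
    obtain ⟨q', hq'⟩ := PrimeSpectrum.comap_surjective_of_faithfullyFlat (A := Localization.Away (i : R)) (B := R' i) q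
    refine ⟨(Sigma.ι g ⟨i⟩).base q', ?_⟩
    show ((Sigma.ι g ⟨i⟩ ≫ f)).base q' = p
    simp only [f, Sigma.ι_desc]
    show PrimeSpectrum.comap (algebraMap R (R' i)) q' = p'
    rw [IsScalarTower.algebraMap_eq R (Localization.Away (i : R)) (R' i), PrimeSpectrum.comap_comp_apply, hq', hq]
  refine ⟨∐ g, f, hflat, ⟨hsurj⟩, fun V hV => ⟨f ⁻¹ᵁ V, f.isCompact_preimage hV.isCompact, ?_⟩, fun s' => ?_⟩
  · exact Set.image_preimage_eq _ hsurj
  obtain ⟨⟨i, z⟩, rfl⟩ := (sigmaMk g).surjective s'
  refine ⟨(Sigma.ι g i).opensRange, ⟨z, (sigmaMk_mk g i z).symm⟩, ?_⟩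
  haveI : Nonempty (g i) := ⟨z⟩
  haveI : Nontrivial (R' i.down) := (PrimeSpectrum.nonempty_iff_nontrivial.1 ⟨(z : PrimeSpectrum (R' i.down))⟩)
  let e' : R' i.down ⊗[R] A ≃ₐc[R' i.down] MonoidAlgebra (R' i.down) (M i.down) :=
    (Groth.Agent.MultT.bcTrans R (Localization.Away (i.down : R)) (R' i.down) A).symm.trans (e i.down).some
  have hfg : Group.FG (M i.down) := hfgM _ _ ⟨e'⟩
  obtain ⟨N, hN, hNfg, ⟨σ⟩⟩ := exists_small_model hfg
  refine ⟨N, hN, hNfg, ?_⟩
  obtain ⟨e₁⟩ := nonempty_bc_specGrp R (R' i.down) A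
  obtain ⟨e₂⟩ := nonempty_specGrp_iso (e'.trans (MonoidAlgebra.domCongrBialgEquiv (R' i.down) (R' i.down) σ)).symm
  obtain ⟨e₃⟩ := nonempty_DS_iso (R' i.down) N
  have h1 : Nonempty (Grp.mk (Red.bc (φ i) (specGrp R A).X) ≅ Grp.mk (Red.DS (g i) N)) := ⟨e₁ ≪≫ e₂ ≪≫ e₃.symm⟩
  have h2 := nonempty_bc_split (H := (specGrp R A).X) h1 ((Sigma.ι g i).isoOpensRange.inv)
  rwa [show (Sigma.ι g i).isoOpensRange.inv ≫ φ i = (Sigma.ι g i).opensRange.ι ≫ f by
    rw [← Scheme.Hom.isoOpensRange_inv_comp, Category.assoc]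
    simp [f]] at h2

/-- a type which is finite type modulo a nil ideal is finitely generated -/
theorem fg_of_finiteType_mod_nil {R A : Type u} [CommRing R] [CommRing A] [HopfAlgebra R A] (J : Ideal R)
    (hJ : ∀ x ∈ J, IsNilpotent x) [Algebra.FiniteType (R ⧸ J) ((R ⧸ J) ⊗[R] A)]
    (L : Type u) [CommRing L] [Algebra R L] [Nontrivial L] (M : Type u) [CommGroup M]
    (h : Nonempty (L ⊗[R] A ≃ₐc[L] MonoidAlgebra L M)) : Group.FG M := by
  obtain ⟨e⟩ := h
  let JL := J.map (algebraMap R L)
  let L' := L ⧸ JL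
  haveI : Nontrivial L' := Ideal.Quotient.nontrivial_iff.2 fun htop => by
    have hle : JL ≤ nilradical L := Ideal.map_le_iff_le_comap.2 fun x hx => mem_nilradical.2 ((hJ x hx).map _)
    have h1 : (1 : L) ∈ nilradical L := hle (htop ▸ Submodule.mem_top)
    exact not_isNilpotent_one (mem_nilradical.1 h1)
  letI : Algebra (R ⧸ J) L' := (Ideal.quotientMap JL (algebraMap R L) Ideal.le_comap_map).toAlgebra
  haveI : IsScalarTower R (R ⧸ J) L' := .of_algebraMap_eq fun r => rfl
  haveI : Algebra.FiniteType L' (L' ⊗[R] A) :=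
    Algebra.FiniteType.equiv (inferInstance : Algebra.FiniteType L' (L' ⊗[R ⧸ J] ((R ⧸ J) ⊗[R] A)))
      (Algebra.TensorProduct.cancelBaseChange R (R ⧸ J) L' L' A)
  let π : MonoidAlgebra L M →ₐ[L] MonoidAlgebra L' M :=
    MonoidAlgebra.lift L (MonoidAlgebra L' M) M (MonoidAlgebra.of L' M)
  let g : A →ₐ[R] MonoidAlgebra L' M :=
    ((π.comp (e.toAlgEquiv : L ⊗[R] A ≃ₐ[L] MonoidAlgebra L M).toAlgHom).restrictScalars R).comp
      Algebra.TensorProduct.includeRight
  let ψ : L' ⊗[R] A →ₐ[L'] MonoidAlgebra L' M :=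
    Algebra.TensorProduct.lift (Algebra.ofId L' _) g fun _ _ => .all _ _
  have key : ∀ z : L ⊗[R] A, π (e z) ∈ ψ.range := by
    intro z
    induction z using TensorProduct.induction_on with
    | zero => rw [map_zero, map_zero]; exact zero_mem _
    | add x y hx hy => rw [map_add, map_add]; exact add_mem hx hy
    | tmul l a =>
      have h1 : π (e (l ⊗ₜ a)) = l • g a := by
        rw [show l ⊗ₜ[R] a = l • ((1 : L) ⊗ₜ[R] a) by rw [TensorProduct.smul_tmul', smul_eq_mul, mul_one],
          map_smul, map_smul]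
        rfl
      rw [h1, ← IsScalarTower.algebraMap_smul L' l (g a)]
      exact Subalgebra.smul_mem _ ((AlgHom.mem_range ψ).2 ⟨1 ⊗ₜ a, by simp [ψ, ← MonoidAlgebra.one_def]⟩) _
  have hψ : Function.Surjective ψ := by
    intro w
    suffices hw : w ∈ ψ.range from hw
    induction w using MonoidAlgebra.induction_linear with
    | zero => exact zero_mem _
    | add x y hx hy => exact add_mem hx hy
    | single m c =>
      obtain ⟨l, rfl⟩ := Ideal.Quotient.mk_surjective c
      have h2 := key (e.symm (MonoidAlgebra.single m l))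
      rw [show e (e.symm (MonoidAlgebra.single m l)) = MonoidAlgebra.single m l from e.toAlgEquiv.apply_symm_apply _]
        at h2
      convert h2 using 1
      simp [π, MonoidAlgebra.lift_single, MonoidAlgebra.of_apply, Algebra.smul_def]
      rfl
  haveI : Algebra.FiniteType L' (MonoidAlgebra L' M) := Algebra.FiniteType.of_surjective ψ hψ
  exact (MonoidAlgebra.finiteType_iff_group_fg (R := L')).1 inferInstance

end Groth.Agent.CentralLift
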