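import Groth.Agent.FibCrit.Thickening
import Mathlib

/-!
# Sections of etale morphisms along surjective closed immersions
-/

set_option autoImplicit false
set_option linter.style.haveILetI false
set_option backward.isDefEq.respectTransparency false

universe u

open CategoryTheory Limits AlgebraicGeometry

noncomputable section

namespace Groth.Agent.CentralLift

/-- lifts to an unramified scheme agree if they agree on a surjective subscheme -/
theorem eq_of_surjective {V Y Z Z₀ : Scheme.{u}} (π : V ⟶ Y) [FormallyUnramified π] [LocallyOfFiniteType π]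
    (a b : Z ⟶ V) (h : a ≫ π = b ≫ π) (j : Z₀ ⟶ Z) [Surjective j] (hj : j ≫ a = j ≫ b) : a = b := by
  haveI : IsOpenImmersion (pullback.diagonal π) := FormallyUnramified.isOpenImmersion_diagonal π
  let l := pullback.lift a b h
  let ι := pullback.fst l (pullback.diagonal π)
  haveI : Surjective ι := ⟨fun z => by
    obtain ⟨w, rfl⟩ := j.surjective z
    have hc : j ≫ l = (j ≫ a) ≫ pullback.diagonal π := by
      apply pullback.hom_ext <;> simp [l, hj]
    refine ⟨pullback.lift j (j ≫ a) hc w, ?_⟩
    rw [← Scheme.Hom.comp_apply, pullback.lift_fst]⟩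
  haveI : Epi ι.base := (TopCat.epi_iff_surjective _).2 ι.surjective
  haveI : IsIso ι := IsOpenImmersion.isIso ι
  rw [← cancel_epi ι]
  have h1 : ι ≫ a = pullback.snd l (pullback.diagonal π) := by
    have := congrArg (· ≫ pullback.fst π π) (pullback.condition (f := l) (g := pullback.diagonal π))
    simpa [l] using this
  have h2 : ι ≫ b = pullback.snd l (pullback.diagonal π) := by
    have := congrArg (· ≫ pullback.snd π π) (pullback.condition (f := l) (g := pullback.diagonal π))
    simpa [l] using this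
  rw [h1, h2]

/-- the image of a section of an unramified morphism is open, and isomorphic to the base -/
theorem exists_open_section {V₀ Z₀ : Scheme.{u}} (π : V₀ ⟶ Z₀) [FormallyUnramified π] [LocallyOfFiniteType π]
    (σ : Z₀ ⟶ V₀) (hσ : σ ≫ π = 𝟙 Z₀) :
    ∃ E : V₀.Opens, (E : Set V₀) = Set.range σ ∧ E.ι ≫ π ≫ σ = E.ι := by
  haveI : IsOpenImmersion (pullback.diagonal π) := FormallyUnramified.isOpenImmersion_diagonal π
  let l := pullback.lift (π ≫ σ) (𝟙 V₀) (by rw [Category.assoc, hσ, Category.comp_id, Category.id_comp])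
  let ι := pullback.fst l (pullback.diagonal π)
  have hι : ι ≫ π ≫ σ = ι := by
    have h1 := congrArg (· ≫ pullback.fst π π) (pullback.condition (f := l) (g := pullback.diagonal π))
    have h2 := congrArg (· ≫ pullback.snd π π) (pullback.condition (f := l) (g := pullback.diagonal π))
    simp [l] at h1 h2
    rw [h1]
    exact h2.symm
  let E := ι.opensRange
  have hE : (E : Set V₀) = Set.range σ := by
    apply Set.Subset.antisymm
    · rintro _ ⟨e, rfl⟩
      exact ⟨(ι ≫ π) e, by rw [← Scheme.Hom.comp_apply, Category.assoc, hι]⟩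
    · rintro _ ⟨z, rfl⟩
      have hc : σ ≫ l = σ ≫ pullback.diagonal π := by
        apply pullback.hom_ext <;> simp [l, reassoc_of% hσ]
      exact ⟨pullback.lift σ σ hc z, by rw [← Scheme.Hom.comp_apply, pullback.lift_fst]⟩
  refine ⟨E, hE, ?_⟩
  have hf : IsOpenImmersion.lift ι E.ι (by rw [Scheme.Opens.range_ι]; rfl) ≫ ι = E.ι := IsOpenImmersion.lift_fac _ _ _
  rw [← hf, Category.assoc, hι]

/-- sections of etale morphisms lift along surjective closed immersions -/
theorem exists_section_lift {V Z Z₀ : Scheme.{u}} (π : V ⟶ Z) [Etale π] (j : Z₀ ⟶ Z) [IsClosedImmersion j]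
    [Surjective j] (s₀ : Z₀ ⟶ V) (h₀ : s₀ ≫ π = j) :
    ∃ s : Z ⟶ V, s ≫ π = 𝟙 Z ∧ j ≫ s = s₀ := by
  let σ : Z₀ ⟶ pullback π j := pullback.lift s₀ (𝟙 Z₀) (by rw [h₀, Category.id_comp])
  obtain ⟨E, hE, hEσ⟩ := exists_open_section (pullback.snd π j) σ (pullback.lift_snd _ _ _)
  let f := pullback.fst π j
  have hs₀ : σ ≫ f = s₀ := pullback.lift_fst _ _ _
  have hWopen : IsOpen (f '' (E : Set ↥(pullback π j))) := by
    have he := f.isClosedEmbedding
    have hhom : IsHomeomorph f := isHomeomorph_iff_continuous_isClosedMap_bijective.2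
      ⟨f.continuous, he.isClosedMap, he.injective, f.surjective⟩
    exact hhom.isOpenMap _ E.isOpen
  let W : V.Opens := ⟨_, hWopen⟩
  have hW : (W : Set V) = Set.range s₀ := by
    show f '' (E : Set ↥(pullback π j)) = _
    rw [hE, ← Set.range_comp, ← hs₀]
    rfl
  let q := W.ι ≫ π
  let s₁ : Z₀ ⟶ W := IsOpenImmersion.lift W.ι s₀ (by rw [Scheme.Opens.range_ι, hW])
  have hs₁ : s₁ ≫ W.ι = s₀ := IsOpenImmersion.lift_fac _ _ _
  -- over the subscheme the open piece is the section
  haveI : IsIso (pullback.snd q j) := by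
    let g : pullback q j ⟶ pullback π j := pullback.lift (pullback.fst q j ≫ W.ι) (pullback.snd q j) (by
      rw [Category.assoc]; exact pullback.condition)
    refine ⟨pullback.lift s₁ (𝟙 Z₀) (by rw [← Category.assoc, hs₁, h₀, Category.id_comp]), ?_, pullback.lift_snd _ _ _⟩
    have hg : Set.range g ⊆ Set.range E.ι := by
      rw [Scheme.Opens.range_ι]
      rintro _ ⟨w, rfl⟩
      have h1 : f (g w) ∈ (W : Set V) := by
        rw [← Scheme.Hom.comp_apply, show g ≫ f = pullback.fst q j ≫ W.ι from pullback.lift_fst _ _ _,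
          Scheme.Hom.comp_apply]
        exact (pullback.fst q j w).2
      obtain ⟨e, he, hee⟩ := h1
      rwa [← f.isClosedEmbedding.injective hee]
    have hgE : g ≫ pullback.snd π j ≫ σ = g := by
      rw [← IsOpenImmersion.lift_fac E.ι g hg, Category.assoc, hEσ]
    apply pullback.hom_ext
    · refine Eq.trans ?_ (Category.id_comp _).symm
      rw [Category.assoc, pullback.lift_fst, ← cancel_mono W.ι, Category.assoc, hs₁]
      have := congrArg (· ≫ f) hgE
      simpa [g, f, σ] using this
    · refine Eq.trans ?_ (Category.id_comp _).symm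
      rw [Category.assoc, pullback.lift_snd, Category.comp_id]
  haveI : IsIso q := by
    refine FibCrit.LFT.isIso_of_fibres (f := q) (g := 𝟙 Z) (h := q) (Category.comp_id q) fun z => ?_
    obtain ⟨t, ht⟩ := FibCrit.exists_fac_fromSpecResidueField j z
    have hfac : (𝟙 Z : Z ⟶ Z).fiberι z = (pullback.snd (𝟙 Z) (Z.fromSpecResidueField z) ≫ t) ≫ j := by
      rw [Category.assoc, ht]
      exact (Category.comp_id _).symm.trans pullback.condition
    rw [hfac]
    have hsq := IsPullback.of_hasPullback (pullback.snd q j) (pullback.snd (𝟙 Z) (Z.fromSpecResidueField z) ≫ t)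
    have hbig := hsq.paste_horiz (IsPullback.of_hasPullback q j)
    rw [← hbig.isoPullback_inv_snd]
    infer_instance
  refine ⟨inv q ≫ W.ι, by rw [Category.assoc]; exact IsIso.inv_hom_id q, ?_⟩
  have : s₁ ≫ q = j := by rw [← Category.assoc, hs₁, h₀]
  rw [← this, Category.assoc, IsIso.hom_inv_id_assoc, hs₁]

/-- the union of opens on which a morphism is etale -/
def etaleUnion {X Y : Scheme.{u}} (f : X ⟶ Y) : X.Opens :=
  ⨆ U : {U : X.Opens // Etale (U.ι ≫ f)}, U.1

theorem le_etaleUnion {X Y : Scheme.{u}} (f : X ⟶ Y) {U : X.Opens} (h : Etale (U.ι ≫ f)) : U ≤ etaleUnion f :=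
  le_iSup (fun U : {U : X.Opens // Etale (U.ι ≫ f)} => U.1) ⟨U, h⟩

instance etale_etaleUnion {X Y : Scheme.{u}} (f : X ⟶ Y) : Etale ((etaleUnion f).ι ≫ f) := by
  have hcov : TopologicalSpace.IsOpenCover
      (fun U : {U : X.Opens // Etale (U.ι ≫ f)} => (etaleUnion f).ι ⁻¹ᵁ U.1) := by
    refine top_le_iff.1 fun x _ => ?_
    obtain ⟨U, hU⟩ := TopologicalSpace.Opens.mem_iSup.1 x.2
    exact TopologicalSpace.Opens.mem_iSup.2 ⟨U, hU⟩
  refine IsZariskiLocalAtSource.of_openCover (P := @Etale)
    (Scheme.openCoverOfIsOpenCover _ _ hcov) fun U => ?_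
  show Etale ((( etaleUnion f).ι ⁻¹ᵁ U.1).ι ≫ (etaleUnion f).ι ≫ f)
  rw [← Category.assoc, ← morphismRestrict_ι, Category.assoc]
  haveI := U.2
  infer_instance

end Groth.Agent.CentralLift
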