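import Groth.Agent.CentralLift.Lift
import Groth.Agent.CentralLift.NilFT
import Groth.Agent.MTBridge.SubLift
import Groth.Agent.MTBridge.TransporterSub
import Mathlib

/-!
# Central finite etale subgroups of multiplicative type lift uniquely along nil thickenings
-/

set_option autoImplicit false
set_option linter.style.haveILetI false
set_option linter.unusedSectionVars false
set_option backward.isDefEq.respectTransparency false
set_option maxHeartbeats 1000000
set_option synthInstance.maxHeartbeats 400000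

universe u

open CategoryTheory Limits MonoidalCategory CartesianMonoidalCategory AlgebraicGeometry TensorProduct
open scoped CategoryTheory.Obj MonObj
open Groth.Agent.MTBridge (specGrp)

noncomputable section

namespace Groth.Agent.CentralLift

variable {S S₀ : Scheme.{u}} (q : S₀ ⟶ S) [IsClosedImmersion q] [Surjective q]

/-- finiteness and smoothness of a group of multiplicative type may be checked on a surjective closed subscheme -/
theorem finite_smooth_of_bc (H : Over S) [GrpObj H] (hH : SGA3x.IsMultTypeFT H)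
    [IsFinite (Red.bc q H).hom] [Smooth (Red.bc q H).hom] : IsFinite H.hom ∧ Smooth H.hom := by
  haveI := MTBridge.isAffineHom H hH
  haveI := MTFT.locallyOfFiniteType H hH
  haveI := MTBridge.flat_of_isMultTypeFT H hH
  haveI := MTBridge.locallyOfFinitePresentation_of_isMultTypeFT H hH
  haveI : IsFinite (pullback.snd H.hom q) := ‹IsFinite (Red.bc q H).hom›
  haveI : Smooth (pullback.snd H.hom q) := ‹Smooth (Red.bc q H).hom›
  refine ⟨?_, ?_⟩
  · haveI : UniversallyClosed (pullback.fst H.hom q ≫ H.hom) := by rw [pullback.condition]; infer_instance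
    haveI : UniversallyClosed H.hom := .of_comp_surjective (pullback.fst H.hom q) _
    exact (IsFinite.iff_isIntegralHom_and_locallyOfFiniteType _).2
      ⟨IsIntegralHom.iff_universallyClosed_and_isAffineHom.2 ⟨inferInstance, inferInstance⟩, inferInstance⟩
  · refine (FibCrit.LFT.smooth_of_fibres (f := H.hom) (g := 𝟙 S) (h := H.hom) (Category.comp_id H.hom) fun z => ?_).1
    obtain ⟨t, ht⟩ := FibCrit.exists_fac_fromSpecResidueField q z
    have hfac : (𝟙 S : S ⟶ S).fiberι z = (pullback.snd (𝟙 S) (S.fromSpecResidueField z) ≫ t) ≫ q := by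
      rw [Category.assoc, ht]
      exact (Category.comp_id _).symm.trans pullback.condition
    rw [hfac]
    have hsq := IsPullback.of_hasPullback (pullback.snd H.hom q) (pullback.snd (𝟙 S) (S.fromSpecResidueField z) ≫ t)
    rw [← (hsq.paste_horiz (IsPullback.of_hasPullback H.hom q)).isoPullback_inv_snd]
    infer_instance

variable {G H : Over S} [GrpObj G] [GrpObj H]

/-- a homomorphism which is a monomorphism over a surjective closed subscheme is one -/
theorem mono_of_bc [Flat H.hom] [LocallyOfFinitePresentation H.hom] [IsFinite H.hom] [Smooth H.hom]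
    (hH : SGA3x.IsMultTypeFT H) (j : H ⟶ G) [IsMonHom j] [Mono ((Over.pullback q).map j)] : Mono j := by
  have hcomm : ∀ {Z : Over S} (a b : Z ⟶ H), a * b = b * a := fun a b =>
    MTBridge.comm_points_scheme H (MTBridge.locally_of_isMultTypeFT' H hH) a b
  let D : Datum H H (Over.mk q) :=
    { v := fun _ a => a, nat := fun _ _ _ _ => rfl, mul := fun _ _ _ => rfl, central := fun _ a g => hcomm g a }
  haveI : IsClosedImmersion (Over.mk q).hom := ‹IsClosedImmersion q›
  haveI : Surjective (Over.mk q).hom := ‹Surjective q›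
  haveI : Mono (Over.mk q).hom := inferInstanceAs (Mono q)
  obtain ⟨u, -, hext⟩ := exists_glue D (covered hH)
  have key : ∀ {X : Over S} (x : X ⟶ H), x ≫ j = 1 → x = 1 := fun {X} x hx => by
    have h0 : ∀ (Z : Over S) (p : Z ⟶ Over.mk q) (y : Z ⟶ X), y ≫ x = 1 := fun Z p y => by
      rw [← cancel_epi (mapIsoQ q p).hom, MonObj.comp_one]
      apply MTBridge.toBC_inj q
      rw [← cancel_mono ((Over.pullback q).map j), ← MTBridge.toBC_comp, ← MTBridge.toBC_comp, Category.assoc,
        Category.assoc, hx, MonObj.comp_one, MonObj.comp_one, MonObj.one_comp]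
    refine hext x _ _ fun n X' i hg _ => ?_
    rw [MonObj.comp_one]
    refine lift_unique D (n := n) (a := (1 : X' ⟶ H)) ⟨hg.1, one_pow _⟩ (fun Z p y => ?_) (fun Z p y => rfl) ?_
    · show y ≫ i ≫ x = y ≫ (1 : X' ⟶ H)
      rw [← Category.assoc, h0 Z p, MonObj.comp_one]
    · rw [hg.2, one_pow]
  refine ⟨fun {X} a b h => ?_⟩
  have h1 : (a * b⁻¹) ≫ j = 1 := by
    rw [MonObj.mul_comp, GrpObj.inv_comp, h, mul_inv_cancel]
  exact mul_inv_eq_one.1 (key _ h1)

/-- **Central finite etale subgroups of multiplicative type lift uniquely along nil thickenings.** -/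
theorem exists_subgroup_lift_central {A : Type u} [CommRing A] (J : Ideal A) (hJ : ∀ x ∈ J, IsNilpotent x)
    (G : Over (Spec (CommRingCat.of A))) [GrpObj G] [Flat G.hom] [LocallyOfFinitePresentation G.hom]
    (H₀ : Over (Spec (CommRingCat.of (A ⧸ J)))) [GrpObj H₀]
    (j₀ : H₀ ⟶ Red.bc (MTBridge.qJ J) G) [IsMonHom j₀] [Mono j₀]
    [Smooth H₀.hom] [IsFinite H₀.hom] (hm₀ : SGA3x.IsMultTypeFT H₀)
    (hc₀ : ∀ (X : Over _) (x : X ⟶ _) (g : X ⟶ Red.bc (MTBridge.qJ J) G), (x ≫ j₀) * g = g * (x ≫ j₀)) :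
    ∃ (H : Over (Spec (CommRingCat.of A))) (_ : GrpObj H) (j : H ⟶ G), IsMonHom j ∧ Mono j ∧
      SGA3x.IsMultTypeFT H ∧
      (∃ e : Red.bc (MTBridge.qJ J) H ≅ H₀, e.hom ≫ j₀ = (Over.pullback (MTBridge.qJ J)).map j) ∧
      (∀ (X : Over _) (x : X ⟶ _) (g : X ⟶ G), (x ≫ j) * g = g * (x ≫ j)) ∧
      ∀ (H' : Over (Spec (CommRingCat.of A))) [GrpObj H'] (j' : H' ⟶ G) [IsMonHom j'] [Mono j'],
        SGA3x.IsMultTypeFT H' →
        (∃ e' : Red.bc (MTBridge.qJ J) H' ≅ H₀, e'.hom ≫ j₀ = (Over.pullback (MTBridge.qJ J)).map j') →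
        ∃ φ : H' ≅ H, φ.hom ≫ j = j' := by
  let q := MTBridge.qJ J
  haveI : IsClosedImmersion q := IsClosedImmersion.spec_of_surjective _ Ideal.Quotient.mk_surjective
  haveI : Surjective q := ⟨fun p => by
    show p ∈ Set.range (PrimeSpectrum.comap (Ideal.Quotient.mk J))
    rw [range_comap_of_surjective _ _ Ideal.Quotient.mk_surjective, Ideal.mk_ker]
    intro x hx
    haveI : (PrimeSpectrum.asIdeal p).IsPrime := PrimeSpectrum.isPrime p
    exact (nilradical_le_prime (PrimeSpectrum.asIdeal p)) (mem_nilradical.2 (hJ x hx))⟩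
  -- the abstract lift
  obtain ⟨A₀, _, _, hA₀, ⟨e₀⟩⟩ := MTBridge.exists_hopf_of_locally H₀ (MTBridge.locally_of_isMultTypeFT' H₀ hm₀)
  haveI : IsIso e₀.inv.hom.hom.left :=
    inferInstanceAs (IsIso ((Over.forget _).map ((Grp.forget _).map e₀.inv)))
  haveI hft₀ : Algebra.FiniteType (A ⧸ J) A₀ := by
    have h1 : LocallyOfFiniteType (specGrp (A ⧸ J) A₀).X.hom := by
      rw [← Over.w e₀.inv.hom.hom]
      infer_instance
    have h2 : LocallyOfFiniteType (Spec.map (CommRingCat.ofHom (algebraMap (A ⧸ J) A₀))) := h1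
    rw [HasRingHomProperty.Spec_iff (P := @LocallyOfFiniteType)] at h2
    exact RingHom.finiteType_algebraMap.1 h2
  obtain ⟨B, _, _, hq, ⟨α⟩⟩ := Groth.Agent.S2979.result A J hJ A₀ (Groth.Agent.S2973.result (A ⧸ J) A₀ hft₀ hA₀)
  haveI : Algebra.FiniteType (A ⧸ J) ((A ⧸ J) ⊗[A] B) :=
    Algebra.FiniteType.equiv hft₀ (α : (A ⧸ J) ⊗[A] B ≃ₐ[A ⧸ J] A₀).symm
  let H := (specGrp A B).X
  have hH : SGA3x.IsMultTypeFT H :=
    isMultTypeFT_specGrp_of_fg (MultT.isMultType_of_quasi hq) fun L _ _ _ M _ h => fg_of_finiteType_mod_nil J hJ L M h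
  obtain ⟨e₁⟩ := MTBridge.nonempty_bc_specGrp A (A ⧸ J) B
  obtain ⟨e₂⟩ := MTBridge.nonempty_specGrp_iso α.symm
  let φ : Grp.mk (Red.bc q H) ≅ Grp.mk H₀ := e₁ ≪≫ e₂ ≪≫ e₀.symm
  let φ' : Red.bc q H ≅ H₀ := (Grp.forget _).mapIso φ
  haveI : IsMonHom φ'.hom := inferInstanceAs (IsMonHom φ.hom.hom.hom)
  haveI : IsIso φ'.hom.left := inferInstanceAs (IsIso ((Over.forget _).map φ'.hom))
  haveI : IsFinite (Red.bc q H).hom := by rw [← Over.w φ'.hom]; infer_instance
  haveI : Smooth (Red.bc q H).hom := by rw [← Over.w φ'.hom]; infer_instance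
  obtain ⟨hfin, hsm⟩ := finite_smooth_of_bc q H hH
  haveI := hfin
  haveI := hsm
  haveI := MTBridge.flat_of_isMultTypeFT H hH
  haveI := MTBridge.locallyOfFinitePresentation_of_isMultTypeFT H hH
  obtain ⟨j, hj, hjb, hjc, hju⟩ := exists_unique_central_lift q hH (φ'.hom ≫ j₀) fun X x g => by
    rw [← Category.assoc]; exact hc₀ X _ g
  haveI := hj
  haveI : Mono ((Over.pullback q).map j) := by rw [hjb]; infer_instance
  haveI : Mono j := mono_of_bc q hH j
  refine ⟨H, inferInstance, j, hj, inferInstance, hH, ⟨φ', hjb.symm⟩, hjc, ?_⟩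
  rintro H' _ j' _ _ hH' ⟨e', he'⟩
  haveI : IsMonHom e'.hom := MTDescent.isMonHom_of_points _ fun X a b => by
    rw [← cancel_mono j₀, Category.assoc, he', MonObj.mul_comp, MonObj.mul_comp, Category.assoc, Category.assoc, he']
  haveI : IsIso e'.hom.left := inferInstanceAs (IsIso ((Over.forget _).map e'.hom))
  haveI : IsFinite (Red.bc q H').hom := by rw [← Over.w e'.hom]; infer_instance
  haveI : Smooth (Red.bc q H').hom := by rw [← Over.w e'.hom]; infer_instance
  obtain ⟨hfin', hsm'⟩ := finite_smooth_of_bc q H' hH'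
  haveI := hfin'
  haveI := hsm'
  haveI := MTBridge.flat_of_isMultTypeFT H' hH'
  haveI := MTBridge.locallyOfFinitePresentation_of_isMultTypeFT H' hH'
  haveI : IsMonHom φ'.inv := inferInstanceAs (IsMonHom φ.inv.hom.hom)
  haveI : IsMonHom e'.inv := MTDescent.isMonHom_of_points _ fun X a b => by
    rw [← cancel_mono e'.hom, Category.assoc, e'.inv_hom_id, Category.comp_id, MonObj.mul_comp, Category.assoc,
      Category.assoc, e'.inv_hom_id, Category.comp_id, Category.comp_id]
  have comm : ∀ {T : Scheme.{u}} (K : Over T) [GrpObj K] (_ : SGA3x.IsMultTypeFT K) (X : Over T) (a b : X ⟶ K),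
      a * b = b * a := fun K _ hK X a b => MTBridge.comm_points_scheme K (MTBridge.locally_of_isMultTypeFT' K hK) a b
  obtain ⟨f, hf, hfb, -, -⟩ := exists_unique_central_lift q (G := H) hH' (e'.hom ≫ φ'.inv)
    fun X x g => comm _ (MTBridge.isMultTypeFT_bc H q hH) X _ _
  obtain ⟨g, hg, hgb, -, -⟩ := exists_unique_central_lift q (G := H') hH (φ'.hom ≫ e'.inv)
    fun X x g => comm _ (MTBridge.isMultTypeFT_bc H' q hH') X _ _
  haveI := hf
  haveI := hg
  have uniq : ∀ {K : Over (Spec (CommRingCat.of A))} [GrpObj K] [IsFinite K.hom] [Smooth K.hom] [Flat K.hom]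
      [LocallyOfFinitePresentation K.hom] (_ : SGA3x.IsMultTypeFT K) (a : K ⟶ K) [IsMonHom a],
      (Over.pullback q).map a = 𝟙 _ → a = 𝟙 K := fun {K} _ _ _ _ _ hK a _ ha => by
    obtain ⟨u, -, -, -, hu⟩ := exists_unique_central_lift q (G := K) hK (𝟙 _)
      fun X x g => comm _ (MTBridge.isMultTypeFT_bc K q hK) X _ _
    rw [hu a inferInstance ha, hu (𝟙 K) inferInstance (CategoryTheory.Functor.map_id _ _)]
  have hfg : f ≫ g = 𝟙 H' := uniq hH' _ (by
    rw [Functor.map_comp, hfb, hgb, Category.assoc, Iso.inv_hom_id_assoc, Iso.hom_inv_id])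
  have hgf : g ≫ f = 𝟙 H := uniq hH _ (by
    rw [Functor.map_comp, hfb, hgb, Category.assoc, Iso.inv_hom_id_assoc, Iso.hom_inv_id])
  refine ⟨⟨f, g, hfg, hgf⟩, ?_⟩
  show f ≫ j = j'
  obtain ⟨u, -, -, -, hu⟩ := exists_unique_central_lift q (G := G) hH' (e'.hom ≫ j₀) fun X x g => by
    rw [← Category.assoc]; exact hc₀ X _ g
  rw [hu (f ≫ j) inferInstance (by rw [Functor.map_comp, hfb, hjb, Category.assoc, Iso.inv_hom_id_assoc]),
    hu j' inferInstance he'.symm]

end Groth.Agent.CentralLift
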