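import Groth.Agent.MTBridge.NilHomBC
import Groth.Agent.MTBridge.NilConj
import Groth.Agent.MTBridge.OfHopf
import Groth.Agent.MTBridge.SubLift
import Groth.Agent.MTBridge.EssFree
import Groth.Agent.CentralLift.Subgroup
import Groth.Agent.FormalHom.HomLift
import Groth.Agent.InfLift.Scheme
import Groth.Agent.ThickProp.Deform
import Groth.Agent.ThickProp.Lft
import Mathlib

/-!
# Subgroups of multiplicative type lift along square-zero thickenings when flat subschemes do
-/

set_option autoImplicit false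
set_option linter.style.haveILetI false
set_option linter.unusedSectionVars false
set_option backward.isDefEq.respectTransparency false
set_option maxHeartbeats 1000000
set_option synthInstance.maxHeartbeats 400000

universe u

open CategoryTheory Limits MonoidalCategory CartesianMonoidalCategory AlgebraicGeometry TensorProduct Opposite
open TopologicalSpace WithConv
open scoped CategoryTheory.Obj MonObj
open Groth.Agent.MTBridge

noncomputable section

namespace Groth.Agent.CentralLift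

variable {R : Type u} [CommRing R] {A : Type u} [CommRing A] [HopfAlgebra R A]
  {G : Over (Spec (CommRingCat.of R))} [GrpObj G]

/-- One step of the lifting without smoothness, the ideal being of square zero. -/
theorem exists_homMod_sq (hA : SGA3b.IsMultType R A) {J K : Ideal R} (hKJ : K ≤ J)
    (hK : IsNilpotent K) (hK2 : K ^ 2 = ⊥) (f : (specGrp R A).X ⟶ G) (hf : HomMod K f) :
    ∃ f' : (specGrp R A).X ⟶ G, HomMod (K ^ 2) f' ∧
      ∀ (T : Type u) [CommRing T] [Algebra R T], (∀ c ∈ J, algebraMap R T c = 0) →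
        ∀ x : Pt (specGrp R A).X T, x ≫ f' = x ≫ f := by
  haveI := Groth.Agent.MultT.isCocomm hA
  obtain ⟨l, hl1, hl⟩ := Groth.Agent.MultT.exists_isHaar hA
  haveI : IsCommMonObj (specGrp R A).X :=
    inferInstanceAs (IsCommMonObj ((Spec (CommRingCat.of A)).asOver (Spec (CommRingCat.of R))))
  have hsq : ∀ {T : Type u} [CommRing T] [Algebra R T], (∀ c ∈ K ^ 2, algebraMap R T c = 0) →
      (K.map (algebraMap R T)) ^ 2 = ⊥ := by
    intro T _ _ h
    rw [← Ideal.map_pow, Ideal.map_eq_bot_iff_le_ker]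
    exact fun c hc => h c hc
  let z : ∀ (T : Type u) [CommRing T] [Algebra R T], Pt (specGrp R A).X (T ⊗[R] A) :=
    fun T _ _ => spMap (Algebra.TensorProduct.includeRight : A →ₐ[R] T ⊗[R] A)
  let iL : ∀ (T : Type u) [CommRing T] [Algebra R T], T →ₐ[R] T ⊗[R] A :=
    fun T _ _ => Algebra.TensorProduct.includeLeft
  let d : ∀ {X : Over (Spec (CommRingCat.of R))}, (X ⟶ (specGrp R A).X) → (X ⟶ (specGrp R A).X) → (X ⟶ G) :=
    fun x y => (x ≫ f) * (y ≫ f) * ((x * y) ≫ f)⁻¹
  let D : ∀ (T : Type u) [CommRing T] [Algebra R T], Pt (specGrp R A).X T → Pt G (T ⊗[R] A) :=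
    fun T _ _ x => d (spMap (iL T) ≫ x) (z T)
  have hd0 : ∀ (T : Type u) [CommRing T] [Algebra R T] (x y : Pt (specGrp R A).X T),
      (∀ c ∈ K, algebraMap R T c = 0) → d x y = 1 := fun T _ _ x y hT => by
    simp only [d, hf T hT x y, mul_inv_cancel]
  have hdc : ∀ {X X' : Over (Spec (CommRingCat.of R))} (b : X' ⟶ X) (x y : X ⟶ (specGrp R A).X),
      b ≫ d x y = d (b ≫ x) (b ≫ y) := fun b x y => by
    simp only [d, MonObj.comp_mul, GrpObj.comp_inv, ← Category.assoc]
  have havg : ∀ (T : Type u) [CommRing T] [Algebra R T] (x : Pt (specGrp R A).X T),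
      (∀ c ∈ K ^ 2, algebraMap R T c = 0) → ∃ b, IsAvg K l (D T x) b := fun T _ _ x hT =>
    exists_isAvg hK (hsq hT) hl1 _ fun Q _ _ g hQ => by
      simp only [D, hdc, spMap_assoc]
      exact hd0 Q _ _ hQ
  let A' := A ⧸ (K ^ 2).map (algebraMap R A)
  have hA' : ∀ c ∈ K ^ 2, algebraMap R A' c = 0 := fun c hc => by
    rw [IsScalarTower.algebraMap_apply R A A', Ideal.Quotient.algebraMap_eq, Ideal.Quotient.eq_zero_iff_mem]
    exact Ideal.mem_map_of_mem _ hc
  let xu : Pt (specGrp R A).X A' := quotPt A (K ^ 2)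
  obtain ⟨bu, hbu⟩ := havg A' xu hA'
  -- the corrected morphism modulo K ^ 2
  obtain ⟨f', hf'⟩ : ∃ f' : (specGrp R A).X ⟶ G, xu ≫ f' = bu⁻¹ * (xu ≫ f) := by
    have hI : (K ^ 2).map (algebraMap R A) = ⊥ := by rw [hK2, Ideal.map_bot]
    let s : A' →ₐ[R] A := Ideal.Quotient.liftₐ _ (AlgHom.id R A) fun a ha => by
      rw [hI, Ideal.mem_bot] at ha
      rw [ha, map_zero]
    refine ⟨spMap s ≫ (bu⁻¹ * (xu ≫ f)), ?_⟩
    have hxu : xu = spMap (Ideal.Quotient.mkₐ R ((K ^ 2).map (algebraMap R A))) := rfl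
    rw [← Category.assoc, show xu ≫ spMap s = 𝟙 _ from ?_, Category.id_comp]
    rw [hxu]
    refine (spMap_comp _ _).trans ?_
    rw [show (Ideal.Quotient.mkₐ R ((K ^ 2).map (algebraMap R A))).comp s = AlgHom.id R A' from
      Ideal.Quotient.algHom_ext _ (AlgHom.ext fun a => rfl)]
    apply Over.OverMorphism.ext
    show Spec.map (CommRingCat.ofHom (RingHom.id A')) = 𝟙 _
    rw [CommRingCat.ofHom_id, Spec.map_id]
  have hF : ∀ (T : Type u) [CommRing T] [Algebra R T] (_ : ∀ c ∈ K ^ 2, algebraMap R T c = 0)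
      (x : Pt (specGrp R A).X T) (b : Pt G T), IsAvg K l (D T x) b → x ≫ f' = b⁻¹ * (x ≫ f) := by
    intro T _ _ hT x b hb
    obtain ⟨φ, rfl⟩ := exists_pt x
    let φ' : A' →ₐ[R] T := Ideal.Quotient.liftₐ _ φ fun a ha => by
      have h1 := Ideal.mem_map_of_mem (φ : A →+* T) ha
      rw [Ideal.map_map, AlgHom.comp_algebraMap] at h1
      rwa [Ideal.map_eq_bot_iff_le_ker (algebraMap R T) |>.2 (fun c hc => hT c hc), Ideal.mem_bot] at h1
    have hx : spMap φ = spMap φ' ≫ xu := by
      rw [spMap_comp]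
      exact congrArg spMap (AlgHom.ext fun a => rfl)
    have h2 := hbu.baseChange hl1 (hsq hT) φ'
    have h3 : spMap (avgBC φ') ≫ D A' xu = D T (spMap φ) := by
      simp only [D, z, hdc, spMap_assoc, spMap_comp]
      rw [show (avgBC (A := A) φ').comp (iL A') = (iL T).comp φ' from AlgHom.ext fun a => by simp [avgBC, iL],
        show (avgBC (A := A) φ').comp Algebra.TensorProduct.includeRight = Algebra.TensorProduct.includeRight from
          AlgHom.ext fun a => by simp [avgBC], ← spMap_assoc, ← hx, spMap_comp]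
    rw [h3] at h2
    rw [hb.unique hK h2, hx, Category.assoc, hf', MonObj.comp_mul, GrpObj.comp_inv, Category.assoc]
  refine ⟨f', fun T _ _ hT x y => ?_, fun T _ _ hT x => ?_⟩
  · obtain ⟨bx, hbx⟩ := havg T x hT
    obtain ⟨b_y, hby⟩ := havg T y hT
    obtain ⟨bxy, hbxy⟩ := havg T (x * y) hT
    have hc := isAvg_const (A := A) (hsq hT) hl1 (d x y)
    have hcf := isAvg_const (A := A) (hsq hT) hl1 (x ≫ f)
    obtain ⟨ψ, hψ⟩ := exists_pt y
    have htr := hbx.translate hl1 hl (hsq hT) ψ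
    have ht1 : spMap (avgTr ψ) ≫ spMap (iL T) ≫ x = spMap (iL T) ≫ x := by
      rw [spMap_assoc, show (avgTr ψ).comp (iL T) = iL T from AlgHom.ext fun t => by simp [avgTr, iL]]
    have ht2 : spMap (avgTr ψ) ≫ z T = (spMap (iL T) ≫ y) * z T := by
      simp only [z]
      rw [hψ, spMap_comp, spMap_comp, spMap_eq_pt, spMap_eq_pt, spMap_eq_pt]
      refine (congrArg pt (ofConv_injective (AlgHom.ext fun a => ?_))).trans (map_mul Spec.mapMulEquiv _ _)
      rw [AlgHom.convMul_apply]
      simp only [ofConv_toConv, AlgHom.comp_apply, Algebra.TensorProduct.includeRight_apply, avgTr,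
        Algebra.TensorProduct.productMap_apply_tmul, map_one, Bialgebra.comulAlgHom_apply, one_mul]
      induction Coalgebra.comul (R := R) a using TensorProduct.induction_on with
      | zero => simp
      | add p q hp hq => simp only [map_add, ← hp, ← hq]
      | tmul p q => simp [iL]
    have htr' : IsAvg K l (d (spMap (iL T) ≫ x) ((spMap (iL T) ≫ y) * z T)) bx := by
      have h := htr
      simp only [D, hdc, ht1, ht2] at h
      exact h
    have lhs : IsAvg K l ((spMap (iL T) ≫ d x y) * D T (x * y)) (d x y * bxy) := hc.mul hbxy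
    have rhs : IsAvg K l ((spMap (iL T) ≫ x ≫ f) * D T y * (spMap (iL T) ≫ x ≫ f)⁻¹ *
        d (spMap (iL T) ≫ x) ((spMap (iL T) ≫ y) * z T)) ((x ≫ f) * b_y * (x ≫ f)⁻¹ * bx) :=
      ((hcf.mul hby).mul hcf.inv).mul htr'
    have heq : (spMap (iL T) ≫ d x y) * D T (x * y) = (spMap (iL T) ≫ x ≫ f) * D T y * (spMap (iL T) ≫ x ≫ f)⁻¹ *
        d (spMap (iL T) ≫ x) ((spMap (iL T) ≫ y) * z T) := by
      simp only [D, hdc]
      rw [MonObj.comp_mul, ← Category.assoc _ x f]
      simp only [d, ← _root_.mul_assoc (spMap (iL T) ≫ x) (spMap (iL T) ≫ y) (z T)]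
      group
    rw [heq] at lhs
    have key := lhs.unique hK rhs
    rw [hF T hT x bx hbx, hF T hT y b_y hby, hF T hT (x * y) bxy hbxy]
    simp only [d] at key
    rw [show bxy = ((x ≫ f) * (y ≫ f) * ((x * y) ≫ f)⁻¹)⁻¹ * ((x ≫ f) * b_y * (x ≫ f)⁻¹ * bx) by
      rw [← key, inv_mul_cancel_left]]
    group
  · have hT2 : ∀ c ∈ K ^ 2, algebraMap R T c = 0 := fun c hc => hT c (hKJ (Ideal.pow_le_self (by norm_num) hc))
    have h1 : D T x = 1 := hd0 _ _ _ fun c hc => by
      rw [IsScalarTower.algebraMap_apply R T (T ⊗[R] A), hT c (hKJ hc), map_zero]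
    have h2 := isAvg_const (A := A) (hsq hT2) hl1 (1 : Pt G T)
    rw [MonObj.comp_one, ← h1] at h2
    rw [hF T hT2 x 1 h2, inv_one, _root_.one_mul]

/-- morphisms of reductions lift from affine schemes into smooth ones -/
theorem exists_lift_map_of_smooth {J : Ideal R} (hJ : IsNilpotent J) {X Y : Over (Spec (CommRingCat.of R))}
    [IsAffine X.left] [Smooth Y.hom] (f₀ : Red.bc (qJ J) X ⟶ Red.bc (qJ J) Y) :
    ∃ f : X ⟶ Y, (Over.pullback (qJ J)).map f = f₀ := by
  let φ := Spec.preimage (X.left.isoSpec.inv ≫ X.hom)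
  letI : Algebra R Γ(X.left, ⊤) := φ.hom.toAlgebra
  let e : FormalHom.specX (A := R) Γ(X.left, ⊤) ≅ X := Over.isoMk X.left.isoSpec.symm (by
    show X.left.isoSpec.inv ≫ X.hom = Spec.map φ
    rw [Spec.map_preimage])
  let K := J.map (algebraMap R Γ(X.left, ⊤))
  let xq := FormalHom.quotHomX Γ(X.left, ⊤) J
  let p := FormalHom.quotToP Γ(X.left, ⊤) J
  obtain ⟨n, hn⟩ := hJ
  obtain ⟨c, hc1, hc2⟩ := exists_lift_of_smooth_nil Y.hom n (Ideal.Quotient.mk K) Ideal.Quotient.mk_surjective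
    (by rw [Ideal.mk_ker, ← Ideal.map_pow, hn, Ideal.zero_eq_bot, Ideal.map_bot])
    (push f₀ p (xq ≫ e.hom)).left (FormalHom.specX (A := R) Γ(X.left, ⊤)).hom
    ((Over.w xq).trans (Over.w (push f₀ p (xq ≫ e.hom))).symm)
  let g : FormalHom.specX (A := R) Γ(X.left, ⊤) ⟶ Y := Over.homMk c hc2
  have hg : xq ≫ g = push f₀ p (xq ≫ e.hom) := Over.OverMorphism.ext hc1
  refine ⟨e.inv ≫ g, ?_⟩
  have key : ∀ (Z : Over (Spec (CommRingCat.of R))) (p' : Z ⟶ Over.mk (qJ J)) (x : Z ⟶ X),
      x ≫ e.inv ≫ g = push f₀ p' x := fun Z p' x => by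
    obtain ⟨b, hb⟩ := FormalHom.exists_factor_quotX Γ(X.left, ⊤) J p' (x ≫ e.inv)
    rw [← reassoc_of% hb, hg, comp_push f₀ b p p', reassoc_of% hb, Iso.inv_hom_id, Category.comp_id]
  have h := key _ (mapToMk (qJ J) _) (fromBC (qJ J) (𝟙 (Red.bc (qJ J) X)))
  rw [push_self, toBC_fromBC, ← fromBC_comp_map, Category.id_comp, Category.id_comp] at h
  have h2 := congrArg (toBC (qJ J)) h
  rwa [toBC_fromBC, toBC_fromBC] at h2

/-- the flat subscheme gives a subgroup of multiplicative type -/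
theorem exists_subgroup_of_flat {J : Ideal R} (hJ : J ^ 2 = ⊥)
    (H₀ : Over (Spec (CommRingCat.of (R ⧸ J)))) [GrpObj H₀] (j₀ : H₀ ⟶ Red.bc (qJ J) G) [IsMonHom j₀]
    [IsImmersion j₀.left] [Smooth H₀.hom] (hm₀ : SGA3x.IsMultTypeFT H₀)
    (H' : Scheme.{u}) (h' : H' ⟶ G.left) [Flat (h' ≫ G.hom)]
    (e : pullback h' (pullback.fst G.hom (qJ J)) ≅ H₀.left)
    (he : e.hom ≫ j₀.left = pullback.snd h' (pullback.fst G.hom (qJ J))) :
    ∃ (H : Over (Spec (CommRingCat.of R))) (_ : GrpObj H) (j : H ⟶ G), IsMonHom j ∧ Mono j ∧ IsImmersion j.left ∧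
      SGA3x.IsMultTypeFT H ∧ ∃ φ : Red.bc (qJ J) H ≅ H₀, φ.hom ≫ j₀ = (Over.pullback (qJ J)).map j := by
  let q := qJ J
  have hJn : IsNilpotent J := ⟨2, hJ⟩
  have hJn' : ∀ x ∈ J, IsNilpotent x := fun x hx => ⟨2, by
    have := Ideal.pow_mem_pow hx 2
    rwa [hJ, Ideal.mem_bot] at this⟩
  haveI : IsClosedImmersion q := InfLift.isClosedImmersion_specQuot J
  haveI : Surjective q := InfLift.surjective_specQuot J hJ
  haveI := MTBridge.isAffineHom H₀ hm₀
  haveI := MTFT.locallyOfFiniteType H₀ hm₀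
  -- the abstract lift
  obtain ⟨A₀, _, _, hA₀, ⟨e₀⟩⟩ := exists_hopf_of_locally H₀ (locally_of_isMultTypeFT' H₀ hm₀)
  haveI : IsIso e₀.inv.hom.hom.left :=
    inferInstanceAs (IsIso ((Over.forget _).map ((Grp.forget _).map e₀.inv)))
  haveI hft₀ : Algebra.FiniteType (R ⧸ J) A₀ := by
    have h1 : LocallyOfFiniteType (specGrp (R ⧸ J) A₀).X.hom := by
      rw [← Over.w e₀.inv.hom.hom]
      infer_instance
    have h2 : LocallyOfFiniteType (Spec.map (CommRingCat.ofHom (algebraMap (R ⧸ J) A₀))) := h1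
    rw [HasRingHomProperty.Spec_iff (P := @LocallyOfFiniteType)] at h2
    exact RingHom.finiteType_algebraMap.1 h2
  obtain ⟨B, _, _, hq, ⟨α⟩⟩ := Groth.Agent.S2979.result R J hJn' A₀ (Groth.Agent.S2973.result (R ⧸ J) A₀ hft₀ hA₀)
  have hB := MultT.isMultType_of_quasi hq
  haveI : Algebra.FiniteType (R ⧸ J) ((R ⧸ J) ⊗[R] B) :=
    Algebra.FiniteType.equiv hft₀ (α : (R ⧸ J) ⊗[R] B ≃ₐ[R ⧸ J] A₀).symm
  haveI := finiteType_of_nil (A := B) J hJn
  let H := (specGrp R B).X
  have hH : SGA3x.IsMultTypeFT H := isMultTypeFT_specGrp hB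
  obtain ⟨e₁⟩ := nonempty_bc_specGrp R (R ⧸ J) B
  obtain ⟨e₂⟩ := nonempty_specGrp_iso α.symm
  let φg : Grp.mk (Red.bc q H) ≅ Grp.mk H₀ := e₁ ≪≫ e₂ ≪≫ e₀.symm
  let φ : Red.bc q H ≅ H₀ := (Grp.forget _).mapIso φg
  haveI : IsMonHom φ.hom := inferInstanceAs (IsMonHom φg.hom.hom.hom)
  haveI : IsIso φ.hom.left := inferInstanceAs (IsIso ((Over.forget _).map φ.hom))
  haveI : Smooth (Red.bc q H).hom := by rw [← Over.w φ.hom]; infer_instance
  haveI := MTBridge.flat_of_isMultTypeFT H hH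
  haveI := MTBridge.locallyOfFinitePresentation_of_isMultTypeFT H hH
  haveI := MTBridge.isAffineHom H hH
  haveI : IsAffine H.left := isAffine_of_isAffineHom H.hom
  -- the subscheme over the thin base
  let X : Over (Spec (CommRingCat.of R)) := Over.mk (h' ≫ G.hom)
  let i' : X ⟶ G := Over.homMk h'
  have sq := (IsPullback.of_hasPullback h' (pullback.fst G.hom q)).paste_vert (IsPullback.of_hasPullback G.hom q)
  have hsq : pullback.snd h' (pullback.fst G.hom q) ≫ pullback.snd G.hom q = e.hom ≫ H₀.hom := by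
    rw [← he, Category.assoc, ← Over.w j₀]
    rfl
  let ψ : Red.bc q X ≅ H₀ := Over.isoMk (sq.isoPullback.symm ≪≫ e) (by
    show (sq.isoPullback.inv ≫ e.hom) ≫ H₀.hom = pullback.snd (h' ≫ G.hom) q
    rw [Category.assoc, ← hsq, sq.isoPullback_inv_snd])
  have hψ : ψ.hom ≫ j₀ = (Over.pullback q).map i' := by
    apply Over.OverMorphism.ext
    show (sq.isoPullback.inv ≫ e.hom) ≫ j₀.left = _
    rw [Category.assoc, he]
    apply pullback.hom_ext
    · rw [map_left_fst, Category.assoc, ← pullback.condition, ← Category.assoc, sq.isoPullback_inv_fst]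
      rfl
    · rw [map_left_snd, Category.assoc]
      exact sq.isoPullback_inv_snd
  haveI : Flat X.hom := ‹Flat (h' ≫ G.hom)›
  haveI : IsAffineHom (Red.bc q X).hom := by
    haveI : IsIso ψ.hom.left := inferInstanceAs (IsIso ((Over.forget _).map ψ.hom))
    rw [← Over.w ψ.hom]; infer_instance
  haveI : IsAffineHom X.hom := by
    haveI : IsAffineHom (pullback.snd X.hom q) := ‹IsAffineHom (Red.bc q X).hom›
    exact ThickProp.isAffineHom_right (f' := X.hom) (IsPullback.of_hasPullback X.hom q)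
  haveI : IsAffine X.left := isAffine_of_isAffineHom X.hom
  haveI : Smooth H.hom := by
    haveI : Smooth (pullback.snd H.hom q) := ‹Smooth (Red.bc q H).hom›
    haveI : Flat (H.hom ≫ 𝟙 _) := by rw [Category.comp_id]; infer_instance
    exact ThickProp.smooth_of_deform (f := pullback.snd H.hom q) (f' := H.hom) (g := 𝟙 _) (g' := 𝟙 _) (iS := q)
      (by simpa only [Category.comp_id] using IsPullback.of_hasPullback H.hom q)
      (IsPullback.of_vert_isIso ⟨by rw [Category.comp_id, Category.id_comp]⟩) pullback.condition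
      (InfLift.isNilpotent_ker_specQuot J hJ)
  obtain ⟨g, hg⟩ := exists_lift_map_of_smooth hJn (X := X) (Y := H) (ψ.hom ≫ φ.inv)
  haveI : IsIso ((Over.pullback q).map g).left := by
    rw [hg]; exact inferInstanceAs (IsIso ((Over.forget _).map (ψ ≪≫ φ.symm).hom))
  haveI : IsIso g.left := by
    haveI : Flat (g.left ≫ H.hom) := by rw [Over.w g]; infer_instance
    exact ThickProp.isIso_of_deform (f := ((Over.pullback q).map g).left) (f' := g.left)
      (g := pullback.snd H.hom q) (g' := H.hom) (iS := q) (iX := pullback.fst X.hom q)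
      (by rw [Over.w g, map_left_snd]; exact IsPullback.of_hasPullback X.hom q)
      (IsPullback.of_hasPullback H.hom q) (map_left_fst q g).symm (InfLift.isNilpotent_ker_specQuot J hJ)
  haveI : IsIso g := by
    haveI : IsIso ((Over.forget _).map g) := ‹IsIso g.left›
    exact isIso_of_reflects_iso g (Over.forget _)
  let f : H ⟶ G := inv g ≫ i'
  have hfb : (Over.pullback q).map f = φ.hom ≫ j₀ := by
    simp only [f, Functor.map_comp, Functor.map_inv, hg, ← hψ]
    rw [IsIso.inv_comp_eq, hg, Category.assoc, Iso.inv_hom_id_assoc]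
  have hmod : ∀ (T : Type u) [CommRing T] [Algebra R T], (∀ c ∈ J, algebraMap R T c = 0) →
      ∀ x y : Pt (specGrp R B).X T, (x * y) ≫ f = (x ≫ f) * (y ≫ f) := fun T _ _ hT x y => by
    obtain ⟨p⟩ := exists_qJ_of_killed hT
    haveI : IsMonHom ((Over.pullback q).map f) := by rw [hfb]; infer_instance
    rw [← FormalHom.push_map f p, ← FormalHom.push_map f p, ← FormalHom.push_map f p, push_mul]
  obtain ⟨f', hf', hf'J⟩ := exists_homMod_sq hB le_rfl hJn hJ f hmod
  rw [hJ] at hf'
  haveI := isMonHom_of_homMod_bot f' hf'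
  have hval : ∀ (Z : Over (Spec (CommRingCat.of R))) (p : Z ⟶ Over.mk (qJ J)) (x : Z ⟶ H), x ≫ f' = x ≫ f :=
    fun Z p x => by
      obtain ⟨b, rfl⟩ := exists_factor_quot p x
      rw [Category.assoc, Category.assoc, hf'J _ (fun c hc => ?_) (quotPt B J)]
      rw [IsScalarTower.algebraMap_apply R B, Ideal.Quotient.algebraMap_eq, Ideal.Quotient.eq_zero_iff_mem]
      exact Ideal.mem_map_of_mem _ hc
  have hf'b : (Over.pullback q).map f' = φ.hom ≫ j₀ := by
    rw [← hfb]
    have h1 := hval _ (mapToMk (qJ J) (Red.bc q H)) (fromBC (qJ J) (𝟙 _))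
    rw [← fromBC_comp_map, ← fromBC_comp_map, Category.id_comp, Category.id_comp] at h1
    have h2 := congrArg (toBC (qJ J)) h1
    rwa [toBC_fromBC, toBC_fromBC] at h2
  haveI : LocallyOfFiniteType f'.left := by
    haveI : LocallyOfFiniteType (f'.left ≫ G.hom) := by rw [Over.w]; infer_instance
    exact locallyOfFiniteType_of_comp f'.left G.hom
  haveI : IsImmersion ((Over.pullback q).map f').left := by
    rw [hf'b, Over.comp_left]; infer_instance
  haveI : IsImmersion f'.left := ThickProp.isImmersion_of_lft (GrpLoc.isPullback_bc q f')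
  exact ⟨H, inferInstance, f', inferInstance, Over.mono_of_mono_left f', inferInstance, hH, φ, hf'b.symm⟩

end Groth.Agent.CentralLift
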